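import Cfsg.Agent.H40.Th.Glue
import Cfsg.Agent.H25.Th.BoundC
import Cfsg.Agent.H25.Th.BoundH

/-!
The order bound of `CC` and the double cosets of `AA` in `HH`, from the certified coset tables.
-/

set_option autoImplicit false
set_option maxRecDepth 100000

namespace Cfsg.Agent.H40.Th

open Cfsg.Agent.H25.Th Cfsg.Agent.H45

/-- the letters of `CC` as letters of the whole group -/
def cmap (l : ℕ) : ℕ := if l < 8 then l else l + 1

theorem cLetters : CLetters (fun l => gv (cmap l)) := by
  refine ⟨fun l hl => ?_, fun w hw => ?_⟩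
  · have h : cmap (linv ivC l) = linv Cfsg.Agent.H25.Th.iv (cmap l) := by
      interval_cases l <;> decide
    simp only [h]
    exact gv_inv _
  · rw [← evalW_map]
    have h : (datM.R.all fun w => decide (w.map cmap ∈ relC)) = true := by decide +kernel
    exact relC_ok _ (of_decide_eq_true (List.all_eq_true.mp h w hw))

theorem hLetters : HLetters gv := by
  refine ⟨fun l hl => ?_, fun w hw => ?_⟩
  · have h : linv ivH l = linv Cfsg.Agent.H25.Th.iv l := by interval_cases l <;> decide
    rw [h]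
    exact gv_inv _
  · rcases List.mem_append.1 hw with hw | hw
    · exact relH_ok w hw
    · rw [List.mem_singleton] at hw
      subst hw
      have h : r0 = r0.map cmap := by decide +kernel
      rw [h, evalW_map]
      exact r0_eq_one cLetters

theorem upTo_eight : upTo gv 8 = AA := by
  refine le_antisymm ((Subgroup.closure_le _).2 ?_) ((Subgroup.closure_le _).2 ?_)
  · rintro _ ⟨l, hl, rfl⟩
    have hm : ∀ g : Cfsg.Spor.Th.Gen, g ∈ aGens → gen g ∈ AA := fun g hg => gen_mem_AA hg
    interval_cases l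
    · exact hm .d (by decide)
    · exact hm .e (by decide)
    · exact hm .s (by decide)
    · exact inv_mem (hm .s (by decide))
    · exact hm .t (by decide)
    · exact inv_mem (hm .t (by decide))
    · exact hm .a (by decide)
    · exact hm .c (by decide)
  · intro x hx
    simp only [Set.mem_insert_iff, Set.mem_singleton_iff] at hx
    rcases hx with rfl | rfl | rfl | rfl | rfl | rfl
    exacts [mem_upTo (e := gv) (l := 6) (by decide), mem_upTo (e := gv) (l := 7) (by decide),
      mem_upTo (e := gv) (l := 0) (by decide), mem_upTo (e := gv) (l := 1) (by decide),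
      mem_upTo (e := gv) (l := 2) (by decide), mem_upTo (e := gv) (l := 4) (by decide)]

theorem HH_le_upTo : HH ≤ upTo gv 9 := by
  refine (Subgroup.closure_le _).2 ?_
  intro x hx
  simp only [Set.mem_insert_iff, Set.mem_singleton_iff] at hx
  rcases hx with rfl | rfl | rfl | rfl | rfl | rfl | rfl
  exacts [mem_upTo (e := gv) (l := 6) (by decide), mem_upTo (e := gv) (l := 8) (by decide),
    mem_upTo (e := gv) (l := 7) (by decide),
    mem_upTo (e := gv) (l := 0) (by decide), mem_upTo (e := gv) (l := 1) (by decide),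
    mem_upTo (e := gv) (l := 2) (by decide), mem_upTo (e := gv) (l := 4) (by decide)]

theorem CC_le_upTo : CC ≤ upTo (fun l => gv (cmap l)) 10 := by
  refine (Subgroup.closure_le _).2 ?_
  intro x hx
  simp only [Set.mem_insert_iff, Set.mem_singleton_iff] at hx
  rcases hx with rfl | rfl | rfl | rfl | rfl | rfl | rfl
  exacts [mem_upTo (e := fun l => gv (cmap l)) (l := 6) (by decide),
    mem_upTo (e := fun l => gv (cmap l)) (l := 7) (by decide),
    mem_upTo (e := fun l => gv (cmap l)) (l := 0) (by decide),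
    mem_upTo (e := fun l => gv (cmap l)) (l := 1) (by decide),
    mem_upTo (e := fun l => gv (cmap l)) (l := 2) (by decide),
    mem_upTo (e := fun l => gv (cmap l)) (l := 4) (by decide),
    mem_upTo (e := fun l => gv (cmap l)) (l := 8) (by decide)]

theorem finite_CC : Finite CC := by
  haveI := (C_card cLetters).2.1
  exact Finite.of_injective _ (Subgroup.inclusion_injective CC_le_upTo)

theorem card_CC_le : Nat.card CC ≤ 92897280 := by
  haveI := (C_card cLetters).2.1
  exact (Subgroup.card_le_of_le CC_le_upTo).trans (C_card cLetters).2.2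

/-- spanning trees of the orbits of `AA` on its cosets in `HH` -/
def treeH : List (ℕ × ℕ × ℕ) := [
  (3, 1, 0), (2, 1, 1), (11, 7, 2), (23, 13, 0), (17, 13, 2), (24, 13, 3), (4, 3, 1), (5, 2, 2),
  (19, 11, 1), (20, 11, 3), (33, 23, 2), (46, 23, 3), (32, 17, 1), (34, 17, 3), (48, 24, 2), (47, 24, 4),
  (6, 4, 2), (8, 5, 1), (9, 5, 3), (38, 19, 2), (39, 19, 3), (40, 20, 4), (57, 33, 1), (60, 33, 3),
  (78, 46, 2), (77, 46, 4), (58, 32, 2), (59, 32, 3), (62, 34, 2), (61, 34, 4), (84, 48, 1), (85, 48, 4),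
  (82, 47, 2), (83, 47, 3), (81, 47, 4), (10, 6, 1), (12, 6, 3), (14, 8, 3), (15, 9, 4), (71, 39, 4),
  (41, 40, 2), (75, 40, 3), (74, 40, 4), (96, 57, 2), (97, 57, 3), (101, 60, 2), (100, 60, 4), (127, 78, 1),
  (128, 78, 4), (125, 77, 2), (126, 77, 3), (124, 77, 4), (98, 59, 4), (107, 62, 1), (108, 62, 4), (105, 61, 2),
  (106, 61, 3), (104, 61, 4), (136, 84, 2), (135, 84, 4), (49, 85, 2), (139, 85, 3), (138, 85, 4), (132, 82, 1),
  (133, 82, 3), (131, 82, 5), (134, 83, 2), (80, 83, 4), (18, 10, 3), (21, 12, 4), (26, 14, 2), (25, 14, 4),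
  (16, 15, 2), (30, 15, 3), (29, 15, 4), (72, 71, 2), (121, 71, 3), (120, 71, 4), (76, 41, 5), (73, 75, 2),
  (157, 97, 4), (167, 101, 1), (168, 101, 4), (165, 100, 2), (166, 100, 3), (164, 100, 4), (202, 127, 2), (201, 127, 4),
  (79, 128, 2), (205, 128, 3), (204, 128, 4), (198, 125, 1), (199, 125, 3), (197, 125, 5), (200, 126, 2), (123, 126, 4),
  (99, 98, 2), (161, 98, 3), (160, 98, 4), (175, 107, 4), (63, 108, 2), (178, 108, 3), (177, 108, 4), (172, 105, 1),
  (173, 105, 3), (171, 105, 5), (174, 106, 2), (103, 106, 4), (210, 136, 4), (218, 135, 2), (220, 135, 3), (217, 135, 4),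
  (86, 49, 5), (209, 139, 2), (224, 139, 4), (223, 139, 5), (130, 138, 4), (212, 132, 3), (208, 132, 5), (214, 133, 2),
  (213, 133, 4), (216, 134, 1), (36, 18, 2), (35, 18, 4), (22, 21, 2), (44, 21, 3), (43, 21, 4), (54, 26, 1),
  (55, 26, 4), (52, 25, 2), (53, 25, 3), (51, 25, 4), (27, 16, 1), (31, 16, 5), (28, 30, 2), (122, 72, 5),
  (119, 121, 2), (158, 157, 2), (262, 157, 3), (261, 157, 4), (269, 167, 4), (102, 168, 2), (272, 168, 3), (271, 168, 4),
  (266, 165, 1), (267, 165, 3), (265, 165, 5), (268, 166, 2), (163, 166, 4), (318, 202, 4), (326, 201, 2), (328, 201, 3),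
  (325, 201, 4), (129, 79, 5), (317, 205, 2), (332, 205, 4), (331, 205, 5), (196, 204, 4), (320, 198, 3), (316, 198, 5),
  (322, 199, 2), (321, 199, 4), (324, 200, 1), (162, 99, 5), (159, 161, 2), (285, 175, 3), (283, 175, 4), (109, 63, 5),
  (276, 178, 2), (288, 178, 4), (287, 178, 5), (170, 177, 4), (278, 172, 3), (275, 172, 5), (280, 173, 2), (279, 173, 4),
  (282, 174, 1), (338, 210, 4), (357, 218, 5), (363, 220, 4), (359, 220, 5), (206, 217, 4), (340, 209, 1), (341, 209, 4),
  (207, 209, 5), (342, 224, 2), (371, 224, 3), (369, 224, 4), (370, 224, 5), (274, 223, 4), (346, 212, 4), (351, 214, 1),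
  (281, 214, 4), (350, 213, 2), (349, 213, 4), (289, 213, 5), (355, 216, 2), (68, 36, 1), (69, 36, 4), (66, 35, 2),
  (67, 35, 3), (65, 35, 4), (37, 22, 1), (45, 22, 5), (42, 44, 2), (92, 54, 4), (95, 55, 3), (94, 55, 4),
  (89, 52, 1), (90, 52, 3), (88, 52, 5), (91, 53, 2), (50, 53, 4), (56, 27, 5), (263, 158, 5), (260, 262, 2),
  (426, 269, 3), (424, 269, 4), (169, 102, 5), (417, 272, 2), (429, 272, 4), (428, 272, 5), (264, 271, 4), (419, 266, 3),
  (416, 266, 5), (421, 267, 2), (420, 267, 4), (423, 268, 1), (488, 318, 4), (507, 326, 5), (513, 328, 4), (509, 328, 5),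
  (314, 325, 4), (490, 317, 1), (491, 317, 4), (315, 317, 5), (492, 332, 2), (519, 332, 3), (517, 332, 4), (518, 332, 5),
  (415, 331, 4), (496, 320, 4), (501, 322, 1), (422, 322, 4), (500, 321, 2), (499, 321, 4), (430, 321, 5), (505, 324, 2),
  (451, 285, 2), (450, 285, 4), (447, 285, 5), (273, 283, 4), (434, 276, 1), (373, 276, 4), (435, 288, 2), (454, 288, 3),
  (353, 288, 4), (337, 288, 5), (439, 278, 2), (438, 278, 4), (442, 280, 1), (215, 280, 4), (441, 279, 2), (368, 279, 4),
  (225, 279, 5), (414, 282, 2), (334, 338, 5), (364, 363, 2), (557, 363, 3), (555, 363, 4), (556, 363, 5), (432, 359, 4),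
  (336, 206, 3), (529, 340, 4), (352, 341, 3), (354, 341, 5), (530, 342, 1), (453, 342, 5), (443, 369, 5), (444, 370, 4),
  (497, 346, 2), (537, 346, 4), (452, 346, 5), (440, 351, 4), (541, 350, 1), (367, 349, 3), (348, 289, 5), (115, 68, 4),
  (118, 69, 3), (117, 69, 4), (112, 66, 1), (113, 66, 3), (111, 66, 5), (114, 67, 2), (64, 67, 4), (70, 37, 5),
  (152, 92, 3), (150, 92, 4), (143, 95, 2), (155, 95, 4), (154, 95, 5), (87, 94, 4), (145, 89, 3), (142, 89, 5),
  (147, 90, 2), (146, 90, 4), (149, 91, 1), (618, 426, 5), (605, 417, 1), (521, 417, 4), (606, 429, 2), (623, 429, 3),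
  (503, 429, 4), (487, 429, 5), (610, 419, 2), (609, 419, 4), (613, 421, 1), (323, 421, 4), (612, 420, 2), (516, 420, 4),
  (333, 420, 5), (484, 488, 5), (514, 513, 2), (688, 513, 3), (686, 513, 4), (687, 513, 5), (603, 509, 4), (486, 314, 3),
  (666, 490, 4), (502, 491, 3), (504, 491, 5), (667, 492, 1), (622, 492, 5), (614, 517, 5), (615, 518, 4), (347, 496, 2),
  (635, 496, 4), (621, 496, 5), (611, 501, 4), (674, 500, 1), (515, 499, 3), (498, 430, 5), (646, 451, 4), (640, 451, 5),
  (539, 450, 4), (525, 450, 5), (628, 434, 2), (559, 434, 4), (554, 438, 2), (634, 441, 1), (372, 225, 5), (558, 364, 5),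
  (719, 557, 2), (632, 555, 5), (633, 556, 4), (548, 432, 2), (538, 529, 3), (540, 529, 5), (641, 530, 5), (673, 497, 3),
  (536, 452, 5), (191, 115, 3), (189, 115, 4), (182, 118, 2), (194, 118, 4), (193, 118, 5), (110, 117, 4), (184, 112, 3),
  (181, 112, 5), (186, 113, 2), (185, 113, 4), (188, 114, 1), (251, 152, 2), (250, 152, 4), (247, 152, 5), (140, 150, 4),
  (230, 143, 1), (231, 143, 4), (141, 143, 5), (232, 155, 2), (257, 155, 3), (255, 155, 4), (256, 155, 5), (180, 154, 4),
  (236, 145, 2), (235, 145, 4), (241, 147, 1), (187, 147, 4), (240, 146, 2), (239, 146, 4), (195, 146, 5), (179, 149, 2),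
  (747, 605, 2), (690, 605, 4), (685, 609, 2), (520, 333, 5), (689, 514, 5), (752, 686, 5), (753, 687, 4), (681, 603, 2),
  (672, 666, 3), (707, 667, 5), (671, 621, 5), (310, 191, 2), (309, 191, 4), (306, 191, 5), (293, 182, 1), (259, 182, 4),
  (294, 194, 2), (313, 194, 3), (243, 194, 4), (228, 194, 5), (298, 184, 2), (297, 184, 4), (301, 186, 1), (148, 186, 4),
  (300, 185, 2), (254, 185, 4), (156, 185, 5), (410, 251, 1), (411, 251, 4), (401, 251, 5), (404, 250, 2), (409, 250, 3),
  (405, 250, 4), (408, 250, 5), (291, 247, 4), (227, 140, 3), (381, 230, 2), (380, 230, 4), (242, 231, 3), (244, 231, 5),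
  (382, 232, 1), (312, 232, 5), (302, 255, 5), (303, 256, 4), (390, 236, 1), (391, 236, 4), (389, 235, 2), (388, 235, 4),
  (311, 235, 5), (396, 241, 2), (299, 241, 4), (395, 240, 1), (253, 239, 3), (238, 195, 5), (482, 310, 1), (483, 310, 4),
  (474, 310, 5), (480, 309, 2), (481, 309, 3), (393, 309, 4), (376, 309, 5), (460, 293, 2), (413, 293, 4), (461, 294, 1),
  (465, 298, 1), (397, 298, 4), (464, 297, 2), (407, 297, 4), (252, 297, 5), (469, 301, 2), (237, 301, 4), (468, 300, 1),
  (258, 156, 5), (601, 410, 2), (600, 410, 4), (594, 410, 5), (561, 411, 3), (459, 411, 4), (593, 411, 5), (595, 401, 4),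
  (552, 404, 1), (598, 404, 3), (597, 404, 5), (599, 409, 2), (249, 405, 2), (466, 405, 5), (467, 408, 4), (457, 291, 2),
  (377, 227, 2), (570, 381, 1), (571, 381, 4), (569, 380, 2), (392, 380, 3), (394, 380, 5), (475, 382, 5), (588, 390, 2),
  (587, 390, 4), (398, 391, 3), (403, 391, 5), (585, 389, 1), (586, 389, 3), (584, 388, 2), (402, 388, 3), (387, 311, 5),
  (592, 396, 1), (296, 396, 4), (657, 482, 4), (651, 482, 5), (659, 483, 3), (583, 483, 5), (652, 474, 4), (656, 480, 1),
  (577, 480, 3), (563, 480, 5), (463, 481, 2), (406, 460, 4), (542, 465, 4), (245, 397, 3), (631, 464, 1), (477, 464, 3),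
  (596, 407, 2), (412, 252, 5), (462, 469, 4), (553, 601, 4), (647, 601, 5), (627, 600, 2), (694, 600, 3), (713, 600, 5),
  (718, 594, 4), (582, 561, 4), (576, 561, 5), (292, 459, 3), (456, 459, 5), (400, 593, 4), (575, 595, 3), (717, 552, 3),
  (716, 552, 5), (572, 598, 2), (573, 598, 4), (568, 598, 5), (742, 599, 1), (362, 249, 1), (151, 249, 3), (564, 377, 1),
  (714, 570, 4), (653, 571, 3), (724, 569, 1), (458, 569, 3), (591, 569, 5), (590, 392, 2), (629, 588, 4), (544, 587, 3),
  (551, 587, 5), (455, 398, 2), (378, 398, 4), (248, 398, 5), (737, 585, 3), (478, 586, 4), (735, 584, 1), (729, 584, 3),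
  (437, 592, 4), (183, 296, 3), (775, 657, 3), (734, 657, 5), (768, 651, 4), (562, 659, 4), (727, 659, 5), (726, 652, 3),
  (730, 656, 3), (721, 656, 5), (384, 577, 2), (385, 577, 4), (655, 577, 5), (630, 463, 1), (479, 406, 3), (356, 542, 3),
  (290, 245, 2), (229, 245, 4), (643, 631, 3), (581, 477, 4), (715, 596, 1), (650, 596, 3), (295, 462, 3), (645, 553, 3),
  (433, 627, 3), (625, 627, 5), (757, 694, 2), (706, 694, 4), (703, 694, 5), (547, 713, 4), (702, 718, 3), (560, 582, 2),
  (386, 582, 3), (580, 582, 4), (246, 292, 2), (797, 717, 2), (728, 717, 4), (699, 717, 5), (700, 572, 1), (383, 573, 2),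
  (470, 573, 4), (566, 573, 5), (379, 568, 4), (219, 362, 3), (765, 714, 3), (476, 653, 4), (626, 724, 3), (741, 724, 5),
  (399, 458, 2), (712, 590, 1), (436, 629, 3), (709, 544, 2), (527, 544, 4), (361, 544, 5), (624, 455, 1), (471, 455, 4),
  (472, 378, 2), (565, 378, 3), (233, 378, 4), (374, 378, 5), (758, 737, 2), (654, 737, 4), (308, 478, 2), (649, 478, 5),
  (805, 735, 3), (648, 729, 4), (277, 437, 3), (116, 183, 4), (814, 775, 2), (720, 775, 4), (795, 775, 5), (794, 768, 3),
  (375, 562, 2), (574, 562, 3), (733, 730, 2), (578, 730, 4), (770, 730, 5), (534, 384, 1), (234, 385, 2), (579, 385, 4),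
  (567, 385, 5), (543, 356, 2), (339, 356, 4), (431, 290, 1), (304, 290, 4), (305, 229, 2), (144, 229, 4), (226, 229, 5),
  (620, 643, 2), (705, 643, 4), (763, 715, 3), (473, 650, 4), (192, 295, 4), (766, 645, 2), (449, 645, 4), (617, 433, 2),
  (680, 757, 1), (662, 757, 4), (754, 757, 5), (796, 706, 2), (535, 706, 3), (704, 706, 4), (358, 547, 3), (784, 702, 2),
  (693, 560, 1), (740, 797, 1), (779, 797, 5), (791, 728, 2), (636, 728, 4), (698, 728, 5), (528, 699, 4), (782, 700, 2),
  (533, 383, 1), (360, 219, 2), (772, 765, 2), (642, 765, 4), (307, 476, 3), (756, 626, 2), (546, 399, 1), (619, 436, 2),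
  (286, 436, 4), (676, 709, 1), (692, 709, 4), (550, 709, 5), (696, 527, 2), (697, 527, 3), (344, 527, 4), (523, 527, 5),
  (755, 624, 2), (637, 624, 4), (638, 472, 1), (153, 233, 4), (682, 758, 1), (764, 758, 4), (771, 654, 2), (767, 654, 5),
  (190, 308, 3), (799, 805, 2), (761, 805, 4), (425, 277, 2), (176, 277, 4), (93, 116, 2), (786, 814, 1), (777, 814, 4),
  (807, 814, 5), (798, 720, 2), (701, 720, 3), (817, 794, 2), (524, 375, 1), (589, 733, 1), (803, 733, 5), (732, 578, 2),
  (731, 578, 4), (723, 578, 5), (670, 534, 2), (345, 234, 1), (708, 543, 1), (522, 543, 4), (526, 339, 2), (211, 339, 4),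
  (335, 339, 5), (616, 431, 2), (445, 431, 4), (446, 305, 1), (512, 620, 1), (644, 620, 4), (759, 705, 2), (785, 763, 2),
  (639, 763, 4), (776, 766, 1), (780, 766, 4), (284, 449, 3), (508, 617, 1), (602, 617, 4), (744, 680, 4), (675, 680, 5),
  (485, 662, 3), (762, 662, 4), (495, 662, 5), (787, 796, 1), (789, 796, 3), (669, 535, 2), (783, 704, 2), (545, 358, 2),
  (813, 784, 1), (751, 740, 2), (793, 740, 5), (750, 791, 1), (683, 791, 3), (760, 636, 2), (665, 528, 2), (739, 782, 1),
  (668, 782, 4), (549, 360, 1), (221, 360, 4), (658, 772, 1), (802, 772, 4), (448, 642, 3), (679, 756, 1), (743, 756, 4),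
  (711, 546, 2), (511, 619, 1), (427, 286, 2), (222, 286, 3), (506, 676, 2), (660, 676, 4), (510, 676, 5), (691, 692, 3),
  (532, 692, 5), (366, 550, 4), (663, 696, 1), (695, 696, 3), (778, 697, 2), (677, 755, 1), (745, 755, 4), (773, 682, 4),
  (736, 764, 3), (815, 764, 5), (788, 771, 1), (816, 771, 5), (722, 799, 1), (327, 425, 1), (270, 176, 2), (137, 176, 3),
  (810, 786, 4), (738, 786, 5), (661, 777, 3), (808, 798, 1), (809, 798, 3), (781, 701, 2), (769, 817, 1), (725, 589, 5),
  (806, 731, 2), (343, 522, 5), (604, 616, 4), (684, 759, 1), (801, 785, 1), (812, 776, 4), (790, 780, 3), (418, 284, 2),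
  (678, 508, 2), (608, 744, 5), (319, 485, 5), (749, 789, 2), (792, 783, 1), (710, 545, 1), (746, 665, 1), (489, 665, 3),
  (748, 739, 4), (494, 668, 3), (365, 549, 4), (329, 221, 3), (774, 658, 4), (800, 802, 3), (607, 448, 2), (330, 427, 1),
  (493, 660, 5), (531, 691, 5), (664, 695, 2), (804, 778, 1), (818, 788, 5), (203, 270, 1), (811, 809, 2)]

/-- a step of the table -/
def stepH (i : ℕ) (x : Cfsg.Spor.Th.Gen × Bool) : ℕ := tget colsHh i (code x)

theorem treeH_ok : treeOK stepH (hReps.map (follow stepH 0)) treeH [] = true := by decide +kernel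

theorem coverH_ok : ((List.range 819).all fun i =>
    (hReps.map (follow stepH 0)).contains i || (treeH.map Prod.fst).contains i) = true := by
  decide +kernel

/-- the double cosets of `AA` in `HH` -/
theorem hH : ∀ h ∈ HH, ∃ r ∈ hReps, ∃ α ∈ AA, ∃ β ∈ AA, h = α * wval r * β := by
  have hcode : ∀ g : Cfsg.Spor.Th.Gen, g ≠ .u → code (g, true) < 9 := by
    intro g hg
    cases g <;> first | exact absurd rfl hg | decide
  refine hH_of_table (n := 819) (f := fun i => datHh.X gv (pget 20 liveHh i)) (T := stepH)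
    (by norm_num) ?_ ?_ ?_ ?_ treeH treeH_ok ?_
  · simp only [liveHh_zero, FD.X_zero]
    exact one_mem _
  · exact fun i hi g hg => ltAll_sound ltHh _ (hcode g hg) i hi
  · intro i hi g hg
    have h := H_edge hLetters hi (hcode g hg)
    rw [upTo_eight, gv_code] at h
    exact ⟨_, h, by simp [stepH]⟩
  · intro h hh
    obtain ⟨i, hi, hm⟩ := (H_card hLetters).1 h (HH_le_upTo hh)
    rw [upTo_eight] at hm
    exact ⟨i, hi, _, hm, by simp⟩
  · intro i hi
    have h := List.all_eq_true.mp coverH_ok i (List.mem_range.mpr hi)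
    simpa only [Bool.or_eq_true, List.contains_iff_mem] using h

theorem card_CC (hfin : Finite Cfsg.Spor.Th) : Nat.card CC = 92897280 :=
  card_CC_eq hfin card_CC_le

end Cfsg.Agent.H40.Th
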