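import Mathlib

/-!
A centraliser from a double coset cover.
-/

set_option autoImplicit false

namespace Cfsg.Agent.H40.Th

/-- If `C ≤ C(z)`, the double cosets `H gᵢ C` cover the group, only the trivial one conjugates `z`
to an `H`-conjugate of `z`, and `C(z) ∩ H ≤ C`, then `C(z) = C`. -/
theorem centralizer_eq_of_doubleCoset {G : Type*} [Group G] {ι : Type*} {H C : Subgroup G} {z : G}
    (g : ι → G) (i₀ : ι) (h₀ : g i₀ = 1) (hC : C ≤ Subgroup.centralizer {z})
    (hH : ∀ h ∈ H, h * z = z * h → h ∈ C)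
    (hcov : ∀ x : G, ∃ i, ∃ h ∈ H, ∃ c ∈ C, x = h * g i * c)
    (hbad : ∀ i, i ≠ i₀ → ∀ h ∈ H, g i * z * (g i)⁻¹ ≠ h⁻¹ * z * h) :
    Subgroup.centralizer {z} = C := by
  refine le_antisymm (fun k hk => ?_) hC
  obtain ⟨i, h, hh, c, hc, rfl⟩ := hcov k
  have h1 : h * g i ∈ Subgroup.centralizer ({z} : Set G) := by
    simpa using mul_mem hk (inv_mem (hC hc))
  rw [Subgroup.mem_centralizer_singleton_iff] at h1
  by_cases hi : i = i₀
  · subst hi
    rw [h₀, mul_one] at h1 ⊢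
    exact mul_mem (hH h hh h1) hc
  · refine absurd ?_ (hbad i hi h hh)
    calc g i * z * (g i)⁻¹ = h⁻¹ * (h * g i * z) * (g i)⁻¹ := by group
      _ = h⁻¹ * (z * (h * g i)) * (g i)⁻¹ := by rw [h1]
      _ = h⁻¹ * z * h := by group

end Cfsg.Agent.H40.Th
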