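import Cfsg.Agent.H40.Th.NodeCheck
import Cfsg.Agent.H40.Th.DoubleCoset
import Cfsg.Prelude.Def_Sporadic

/-!
The involution centraliser of the presented Thompson group from double coset covers.
-/

set_option autoImplicit false

namespace Cfsg.Agent.H40.Th

open Matrix Cfsg.Agent.H32 ThRep

attribute [local irreducible] ThRep.gm ThRep.gi ThRep.mat ThRep.rep248 ThRep.chk ThRep.okMat
  ThRep.idN

/-- the subgroup `<a, c, d, e, s, t>` -/
def AA : Subgroup Cfsg.Spor.Th :=
  Subgroup.closure {gen .a, gen .c, gen .d, gen .e, gen .s, gen .t}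

theorem AA_le_CC : AA ≤ CC :=
  Subgroup.closure_mono (by
    intro x hx
    simp only [Set.mem_insert_iff, Set.mem_singleton_iff] at hx ⊢
    tauto)

theorem CC_le_centralizer : CC ≤ Subgroup.centralizer {gen .a} := by
  intro x hx
  exact Subgroup.mem_centralizer_singleton_iff.mpr
    (congrArg Subtype.val (A_central ⟨x, hx⟩))

/-- representatives of the double cosets of `AA` in `HH` -/
def hReps : List (List (Cfsg.Spor.Th.Gen × Bool)) :=
  [[], [(.b, true)], [(.b, true), (.a, true), (.c, true), (.b, true)],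
    [(.b, true), (.c, true), (.d, true), (.c, true), (.b, true)]]

/-- the word does not commute with `a`: witness entry -/
def moveOK (w : List (Cfsg.Spor.Th.Gen × Bool)) (i j : ℕ) : Bool :=
  force (evalV (conjW w) (idN 248)) fun Y =>
    chk 248 ((conjW w).map lm) (idN 248) Y && Nat.blt i 248 && Nat.blt j 248 &&
      !Nat.beq (ent 248 Y i j % 3) (ent 248 (gm .a) i j % 3)

theorem move_sound {w : List (Cfsg.Spor.Th.Gen × Bool)} {i j : ℕ} (h : moveOK w i j = true) :
    wval w * gen .a ≠ gen .a * wval w := by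
  intro heq
  simp only [moveOK, ThRep.force_eq, Bool.and_eq_true, Bool.not_eq_true'] at h
  set Y := evalV (conjW w) (idN 248) with hY
  obtain ⟨⟨⟨hchk, hi⟩, hj⟩, hne⟩ := h
  have h1 : mat 248 Y = mat 248 (gm .a) := by
    have := chk_sound (n := 248) (by norm_num) (w := (conjW w).map lm)
      (fun X hX => by
        obtain ⟨l, -, rfl⟩ := List.mem_map.1 hX
        exact ThRep.okMat_lm l) ThRep.ok_id hchk
    rw [ThRep.mat_idN, one_mul, ← rm_wval, wval_conjW, heq, mul_inv_cancel_right, rm_gen] at this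
    exact this.symm
  have hent : ∀ X : ℕ, ∀ i j : Fin 248, mat 248 X i j = (ent 248 X i j : ZMod 3) := fun X i j => by
    unfold ThRep.mat; rfl
  have h3 := congrFun (congrFun h1 ⟨i, Nat.le_of_ble_eq_true hi⟩) ⟨j, Nat.le_of_ble_eq_true hj⟩
  rw [hent, hent, ZMod.natCast_eq_natCast_iff'] at h3
  have h4 : Nat.beq (ent 248 Y i j % 3) (ent 248 (gm .a) i j % 3) = true := by
    rw [Nat.beq_eq]; exact h3
  rw [h4] at hne
  exact Bool.noConfusion hne

set_option maxRecDepth 100000 in
theorem move_b : moveOK [(.b, true)] 0 0 = true := by decide +kernel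

set_option maxRecDepth 100000 in
theorem move_bacb :
    moveOK [(.b, true), (.a, true), (.c, true), (.b, true)] 0 0 = true := by decide +kernel

set_option maxRecDepth 100000 in
theorem move_bcdcb :
    moveOK [(.b, true), (.c, true), (.d, true), (.c, true), (.b, true)] 0 0 = true := by
  decide +kernel

theorem centralizer_inf_HH
    (hH : ∀ h ∈ HH, ∃ r ∈ hReps, ∃ α ∈ AA, ∃ β ∈ AA, h = α * wval r * β) :
    ∀ h ∈ HH, h * gen .a = gen .a * h → h ∈ CC := by
  intro h hh hcomm
  obtain ⟨r, hr, α, hα, β, hβ, rfl⟩ := hH h hh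
  have hA : ∀ x ∈ AA, x ∈ Subgroup.centralizer ({gen .a} : Set Cfsg.Spor.Th) :=
    fun x hx => CC_le_centralizer (AA_le_CC hx)
  have h1 : α * wval r * β ∈ Subgroup.centralizer ({gen .a} : Set Cfsg.Spor.Th) :=
    Subgroup.mem_centralizer_singleton_iff.mpr hcomm
  have h2 : wval r ∈ Subgroup.centralizer ({gen .a} : Set Cfsg.Spor.Th) := by
    have := mul_mem (mul_mem (inv_mem (hA α hα)) h1) (inv_mem (hA β hβ))
    simpa [mul_assoc] using this
  have h3 := Subgroup.mem_centralizer_singleton_iff.mp h2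
  simp only [hReps, List.mem_cons, List.not_mem_nil, or_false] at hr
  rcases hr with rfl | rfl | rfl | rfl
  · simpa [wval] using mul_mem (AA_le_CC hα) (AA_le_CC hβ)
  · exact absurd h3 (move_sound move_b)
  · exact absurd h3 (move_sound move_bacb)
  · exact absurd h3 (move_sound move_bcdcb)

/-- the centraliser of `a` from certified double coset covers -/
theorem centralizer_a_eq {k : ℕ} (ws : Fin (k + 1) → List (Cfsg.Spor.Th.Gen × Bool))
    (cs : Fin (k + 1) → NodeCert) (h0 : ws 0 = [])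
    (hok : ∀ i, i ≠ 0 → nodeOK (ws i) (cs i) = true)
    (hcov : ∀ x : Cfsg.Spor.Th, ∃ i, ∃ h ∈ HH, ∃ c ∈ CC, x = h * wval (ws i) * c)
    (hH : ∀ h ∈ HH, ∃ r ∈ hReps, ∃ α ∈ AA, ∃ β ∈ AA, h = α * wval r * β) :
    Subgroup.centralizer {gen .a} = CC :=
  centralizer_eq_of_doubleCoset (fun i => wval (ws i)) 0 (by simp [h0, wval]) CC_le_centralizer
    (centralizer_inf_HH hH) hcov (fun i hi _ hh => node_sound (hok i hi) hh)

/-- the shape of the involution centraliser -/
theorem centralizer_shape (hTh : Cfsg.IsTh Cfsg.Spor.Th) (hcard : Nat.card CC = 92897280)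
    (hC : Subgroup.centralizer {gen .a} = CC) :
    ∃ (G : Type) (_ : Group G) (_ : Finite G), Cfsg.IsTh G ∧ ∃ z : G, orderOf z = 2 ∧
      ∃ (Q : Subgroup (Subgroup.centralizer ({z} : Set G))) (_ : Q.Normal),
        Nat.card Q = 2 ^ 9 ∧ Cfsg.IsExtraspecial 2 Q ∧
        Nonempty ((Subgroup.centralizer ({z} : Set G)) ⧸ Q ≃* alternatingGroup (Fin 9)) := by
  have hfin : Finite Cfsg.Spor.Th := Nat.finite_of_card_ne_zero (by rw [hTh.2]; norm_num)
  have ha : gen .a ≠ 1 := by
    intro h
    have htop : CC = ⊤ := by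
      rw [← hC, h]
      ext x
      simp [Subgroup.mem_centralizer_singleton_iff]
    rw [htop, Subgroup.card_top, hTh.2] at hcard
    norm_num at hcard
  have ha' : cg .a ≠ 1 := fun h => ha (congrArg Subtype.val h)
  refine ⟨Cfsg.Spor.Th, inferInstance, hfin, hTh, gen .a, ?_, ?_⟩
  · exact orderOf_eq_prime (by rw [pow_two]; exact congrArg Subtype.val A_sq) ha
  rw [hC]
  obtain ⟨φ⟩ := quot_iso QQ_ne_top
  exact ⟨QQ, inferInstance, (card_QQ QQ_ne_top hcard).trans (by norm_num),
    QQ_extraspecial QQ_ne_top hcard ha', ⟨φ⟩⟩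

end Cfsg.Agent.H40.Th
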