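import Cfsg.Agent.H40.Th.Main

/-!
Glue from coset tables to the involution centraliser of the presented Thompson group.
-/

set_option autoImplicit false

namespace Cfsg.Agent.H40.Th

open Cfsg.Agent.H32 ThRep

attribute [local irreducible] ThRep.gm ThRep.gi ThRep.mat ThRep.rep248 ThRep.chk ThRep.okMat
  ThRep.idN

theorem gen_a_ne_one : gen .a ≠ 1 := by
  intro h
  refine move_sound move_b ?_
  rw [h, mul_one, one_mul]

/-- the order of `CC` from its upper bound -/
theorem card_CC_eq (hfin : Finite Cfsg.Spor.Th) (hle : Nat.card CC ≤ 92897280) :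
    Nat.card CC = 92897280 := by
  haveI := hfin
  have h := local_rels (fun hh => gen_a_ne_one (congrArg Subtype.val hh))
  have hKQ : h.K ≤ QQ := by
    refine (Subgroup.closure_le _).mpr ?_
    rintro _ ⟨i, rfl⟩
    obtain ⟨g, -, hg⟩ := h.q_conj i
    simp only [SetLike.mem_coe, hg]
    simpa using Subgroup.Normal.conj_mem (inferInstance : QQ.Normal) (cg .c) C_mem g⁻¹
  have h1 : 512 ≤ Nat.card QQ := h.card_K_ge.trans (Subgroup.card_le_of_le hKQ)
  obtain ⟨φ⟩ := quot_iso QQ_ne_top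
  have h2 := Subgroup.card_mul_index QQ
  rw [Subgroup.index, Nat.card_congr φ.toEquiv, card_alt_nine] at h2
  have h3 := Nat.mul_le_mul_right 181440 h1
  rw [h2] at h3
  exact le_antisymm hle (by simpa using h3)

/-- the letters of `AA` -/
def aGens : List Cfsg.Spor.Th.Gen := [.a, .c, .d, .e, .s, .t]

theorem gen_mem_AA {g : Cfsg.Spor.Th.Gen} (hg : g ∈ aGens) : gen g ∈ AA := by
  apply Subgroup.subset_closure
  simp only [aGens, List.mem_cons, List.not_mem_nil, or_false] at hg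
  rcases hg with rfl | rfl | rfl | rfl | rfl | rfl <;> simp

/-- membership of a double coset of a representative -/
def InReps (x : Cfsg.Spor.Th) : Prop :=
  ∃ r ∈ hReps, ∃ α ∈ AA, ∃ β ∈ AA, x = α * wval r * β

theorem InReps.mul_left {x α : Cfsg.Spor.Th} (h : InReps x) (hα : α ∈ AA) : InReps (α * x) := by
  obtain ⟨r, hr, α', hα', β, hβ, rfl⟩ := h
  exact ⟨r, hr, α * α', mul_mem hα hα', β, hβ, by simp only [mul_assoc]⟩

theorem InReps.mul_right {x β : Cfsg.Spor.Th} (h : InReps x) (hβ : β ∈ AA) : InReps (x * β) := by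
  obtain ⟨r, hr, α, hα, β', hβ', rfl⟩ := h
  exact ⟨r, hr, α, hα, β' * β, mul_mem hβ' hβ, by simp only [mul_assoc]⟩

/-- follow a word in a table -/
def follow (T : ℕ → Cfsg.Spor.Th.Gen × Bool → ℕ) (i : ℕ)
    (w : List (Cfsg.Spor.Th.Gen × Bool)) : ℕ := w.foldl T i

/-- a right coset table gives the value of a word up to `AA` -/
theorem follow_spec {f : ℕ → Cfsg.Spor.Th} {n : ℕ} {T : ℕ → Cfsg.Spor.Th.Gen × Bool → ℕ}
    (hlt : ∀ i < n, ∀ g, g ≠ Cfsg.Spor.Th.Gen.u → T i (g, true) < n)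
    (hT : ∀ i < n, ∀ g, g ≠ Cfsg.Spor.Th.Gen.u →
      ∃ α ∈ AA, f i * gen g = α * f (T i (g, true))) :
    ∀ (w : List (Cfsg.Spor.Th.Gen × Bool)) (i : ℕ),
      (∀ l ∈ w, l.1 ≠ Cfsg.Spor.Th.Gen.u ∧ l.2 = true) → i < n →
      follow T i w < n ∧ ∃ α ∈ AA, f i * wval w = α * f (follow T i w) := by
  intro w
  induction w with
  | nil => intro i _ hi; exact ⟨hi, 1, one_mem _, by simp [wval, follow]⟩
  | cons l w ih =>
    intro i hw hi
    obtain ⟨g, b⟩ := l
    obtain ⟨hg, hb⟩ := hw (g, b) List.mem_cons_self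
    obtain rfl : b = true := hb
    obtain ⟨α, hα, hstep⟩ := hT i hi g hg
    obtain ⟨h1, β, hβ, h2⟩ := ih (T i (g, true))
      (fun l hl => hw l (List.mem_cons_of_mem _ hl)) (hlt i hi g hg)
    refine ⟨h1, α * β, mul_mem hα hβ, ?_⟩
    rw [show wval ((g, true) :: w) = gen g * wval w by simp [wval], ← mul_assoc, hstep, mul_assoc,
      h2, ← mul_assoc]
    rfl

/-- orbit tree: each entry is `(point, parent, letter)` -/
def treeOK (T : ℕ → Cfsg.Spor.Th.Gen × Bool → ℕ) (roots : List ℕ) :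
    List (ℕ × ℕ × ℕ) → List ℕ → Bool
  | [], _ => true
  | (i, j, l) :: rest, seen =>
    (roots.contains j || seen.contains j) && Nat.blt l 6 &&
      Nat.beq (T j (aGens.getD l .a, true)) i && treeOK T roots rest (i :: seen)

theorem treeOK_sound {f : ℕ → Cfsg.Spor.Th} {n : ℕ} {T : ℕ → Cfsg.Spor.Th.Gen × Bool → ℕ}
    {roots : List ℕ}
    (hlt : ∀ i < n, ∀ g, g ≠ Cfsg.Spor.Th.Gen.u → T i (g, true) < n)
    (hT : ∀ i < n, ∀ g, g ≠ Cfsg.Spor.Th.Gen.u →
      ∃ α ∈ AA, f i * gen g = α * f (T i (g, true)))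
    (hroot : ∀ r ∈ roots, r < n ∧ InReps (f r)) :
    ∀ (es : List (ℕ × ℕ × ℕ)) (seen : List ℕ), treeOK T roots es seen = true →
      (∀ r ∈ seen, r < n ∧ InReps (f r)) → ∀ e ∈ es, e.1 < n ∧ InReps (f e.1) := by
  intro es
  induction es with
  | nil => intro _ _ _ e he; exact absurd he List.not_mem_nil
  | cons x es ih =>
    obtain ⟨i, j, l⟩ := x
    intro seen h hseen
    simp only [treeOK, Bool.and_eq_true, Bool.or_eq_true, List.contains_iff_mem, Nat.blt_eq,
      Nat.beq_eq] at h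
    obtain ⟨⟨⟨hj, hl⟩, hi⟩, hrest⟩ := h
    have hjI : j < n ∧ InReps (f j) := hj.elim (hroot j) (hseen j)
    have hg : aGens.getD l .a ∈ aGens := by
      rw [List.getD_eq_getElem _ _ (show l < aGens.length from hl)]
      exact List.getElem_mem _
    have hu : aGens.getD l .a ≠ Cfsg.Spor.Th.Gen.u := fun hh => by
      rw [hh] at hg; simp [aGens] at hg
    obtain ⟨α, hα, hstep⟩ := hT j hjI.1 _ hu
    rw [hi] at hstep
    have hiI : i < n ∧ InReps (f i) := by
      refine ⟨hi ▸ hlt j hjI.1 _ hu, ?_⟩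
      have := (hjI.2.mul_right (gen_mem_AA hg)).mul_left (inv_mem hα)
      rwa [hstep, inv_mul_cancel_left] at this
    intro e he
    rcases List.mem_cons.1 he with rfl | he
    · exact hiI
    · refine ih (i :: seen) hrest (fun r hr => ?_) e he
      rcases List.mem_cons.1 hr with rfl | hr
      · exact hiI
      · exact hseen r hr

/-- the double cosets of `AA` in `HH` from a coset table -/
theorem hH_of_table {n : ℕ} {f : ℕ → Cfsg.Spor.Th} {T : ℕ → Cfsg.Spor.Th.Gen × Bool → ℕ}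
    (h0n : 0 < n) (h0 : f 0 ∈ AA)
    (hlt : ∀ i < n, ∀ g, g ≠ Cfsg.Spor.Th.Gen.u → T i (g, true) < n)
    (hT : ∀ i < n, ∀ g, g ≠ Cfsg.Spor.Th.Gen.u →
      ∃ α ∈ AA, f i * gen g = α * f (T i (g, true)))
    (hall : ∀ h ∈ HH, ∃ i < n, ∃ α ∈ AA, h = α * f i)
    (es : List (ℕ × ℕ × ℕ))
    (htree : treeOK T (hReps.map (follow T 0)) es [] = true)
    (hcover : ∀ i < n, i ∈ hReps.map (follow T 0) ∨ i ∈ es.map Prod.fst) :
    ∀ h ∈ HH, ∃ r ∈ hReps, ∃ α ∈ AA, ∃ β ∈ AA, h = α * wval r * β := by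
  have hroot : ∀ r ∈ hReps.map (follow T 0), r < n ∧ InReps (f r) := by
    intro r hr
    obtain ⟨w, hw, rfl⟩ := List.mem_map.1 hr
    have hwu : ∀ l ∈ w, l.1 ≠ Cfsg.Spor.Th.Gen.u ∧ l.2 = true := by
      simp only [hReps, List.mem_cons, List.not_mem_nil, or_false] at hw
      rcases hw with rfl | rfl | rfl | rfl <;> simp
    obtain ⟨h1, α, hα, h2⟩ := follow_spec hlt hT w 0 hwu h0n
    refine ⟨h1, w, hw, α⁻¹ * f 0, mul_mem (inv_mem hα) h0, 1, one_mem _, ?_⟩
    rw [mul_one, mul_assoc, h2, inv_mul_cancel_left]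
  intro h hh
  obtain ⟨i, hi, α, hα, rfl⟩ := hall h hh
  have hin : InReps (f i) := by
    rcases hcover i hi with h | h
    · exact (hroot i h).2
    · obtain ⟨e, he, rfl⟩ := List.mem_map.1 h
      exact (treeOK_sound hlt hT hroot es [] htree (by simp) e he).2
  exact hin.mul_left hα

end Cfsg.Agent.H40.Th
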