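import Cfsg.Agent.H40.Th.Local
import Cfsg.Agent.H32.ThRep.Rep

/-!
In the 248-dimensional representation the subgroup `C` permutes 120 lines and the normal closure of
`c` fixes each of them; hence it is a proper subgroup.
-/

set_option autoImplicit false

namespace Cfsg.Agent.H40.Th

open Matrix Cfsg.Agent.H32

attribute [local irreducible] ThRep.gm ThRep.gi ThRep.mat ThRep.rep248

/-- rows of a on the monomial part -/
def monoA : List ℕ := [0, 2, 4, 6, 8, 10, 12, 14, 16, 18, 20, 22, 24, 26, 28, 30, 32, 34, 36, 38, 40, 42, 44, 46, 48, 50, 52, 54, 56, 58, 60, 62, 64, 66, 68, 70, 72, 74, 76, 78, 80, 82, 84, 86, 88, 90, 92, 94, 96, 98, 100, 102, 104, 106, 108, 110, 112, 114, 116, 118, 120, 122, 124, 126, 128, 130, 132, 134, 136, 138, 140, 142, 144, 146, 148, 150, 152, 154, 156, 158, 160, 162, 164, 166, 168, 170, 172, 174, 176, 178, 180, 182, 184, 186, 188, 190, 192, 194, 196, 198, 200, 202, 204, 206, 208, 210, 212, 214, 216, 218, 220, 222, 224, 226,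 228, 230, 232, 234, 236, 238]

/-- rows of c on the monomial part -/
def monoC : List ℕ := [1, 3, 4, 6, 8, 10, 12, 14, 17, 19, 21, 22, 24, 26, 28, 30, 32, 34, 36, 38, 41, 43, 45, 47, 49, 50, 52, 54, 57, 59, 61, 63, 65, 67, 69, 71, 73, 74, 77, 79, 80, 83, 85, 87, 89, 90, 92, 94, 97, 99, 101, 103, 105, 107, 109, 111, 112, 114, 116, 118, 121, 122, 125, 127, 129, 130, 132, 134, 136, 138, 141, 143, 145, 147, 149, 151, 152, 155, 156, 158, 160, 162, 164, 166, 169, 170, 173, 174, 176, 178, 180, 182, 184, 186, 188, 190, 193, 194, 196, 198, 201, 203, 205, 207, 209, 210, 212, 215, 216, 219, 221, 223, 225, 227, 229, 231, 233, 235, 237, 239]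

/-- rows of d on the monomial part -/
def monoD : List ℕ := [1, 4, 2, 137, 37, 175, 13, 16, 14, 74, 23, 21, 27, 25, 173, 46, 48, 79, 9, 41, 39, 170, 197, 30, 32, 81, 72, 56, 54, 178, 220, 127, 67, 65, 214, 169, 52, 18, 152, 35, 51, 84, 82, 234, 90, 88, 93, 195, 158, 139, 103, 101, 223, 209, 109, 112, 110, 117, 115, 119, 160, 125, 123, 63, 131, 129, 135, 133, 7, 99, 156, 162, 180, 207, 205, 151, 76, 164, 140, 96, 120, 142, 154, 199, 71, 42, 29, 11, 200, 58, 144, 185, 183, 189, 187, 202, 193, 95, 45, 167, 176, 190, 149, 147, 107, 217, 213, 68, 211, 229, 60, 105, 227, 225, 219, 232, 230, 86, 239, 237]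

/-- rows of e on the monomial part -/
def monoE : List ℕ := [16, 99, 6, 4, 35, 23, 13, 15, 0, 21, 19, 11, 33, 28, 26, 51, 25, 9, 152, 166, 43, 41, 47, 45, 173, 31, 90, 55, 193, 209, 220, 200, 88, 73, 222, 124, 67, 174, 79, 77, 196, 148, 87, 85, 64, 52, 94, 92, 151, 3, 214, 104, 102, 141, 110, 108, 113, 115, 118, 116, 168, 160, 70, 128, 126, 176, 212, 135, 139, 137, 107, 227, 147, 145, 82, 97, 36, 225, 179, 159, 122, 165, 163, 38, 120, 199, 49, 74, 130, 157, 191, 211, 187, 185, 217, 181, 57, 195, 80, 171, 62, 207, 234, 203, 59, 183, 132, 100, 189, 232, 60, 68, 155, 143, 236, 238, 218, 204, 228, 230]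

/-- rows of s on the monomial part -/
def monoS : List ℕ := [0, 129, 160, 8, 10, 12, 174, 196, 48, 56, 121, 158, 134, 118, 30, 32, 14, 52, 136, 170, 44, 41, 17, 173, 46, 94, 54, 74, 72, 18, 63, 64, 215, 126, 66, 68, 79, 178, 154, 203, 216, 222, 107, 60, 125, 112, 114, 194, 21, 77, 192, 228, 85, 109, 209, 88, 164, 184, 92, 24, 2, 90, 145, 220, 141, 4, 26, 186, 6, 180, 142, 96, 99, 238, 146, 148, 138, 110, 130, 162, 22, 156, 152, 198, 231, 28, 43, 36, 190, 176, 122, 116, 166, 188, 132, 34, 102, 80, 38, 182, 58, 200, 150, 204, 82, 50, 210, 169, 212, 100, 234, 104, 226, 218, 224, 86, 70, 232, 206, 236]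

/-- rows of t on the monomial part -/
def monoT : List ℕ := [0, 18, 74, 174, 136, 8, 12, 14, 16, 76, 78, 34, 50, 80, 196, 170, 30, 138, 6, 28, 172, 48, 40, 42, 46, 198, 122, 112, 110, 144, 60, 64, 168, 70, 234, 126, 125, 152, 2, 98, 166, 236, 239, 230, 120, 160, 118, 116, 56, 20, 85, 82, 148, 206, 151, 96, 158, 134, 132, 212, 200, 130, 128, 66, 73, 52, 94, 194, 10, 22, 202, 58, 142, 226, 228, 192, 4, 140, 190, 54, 176, 178, 156, 26, 62, 32, 44, 36, 90, 180, 162, 186, 188, 216, 210, 164, 109, 114, 38, 24, 88, 154, 218, 224, 146, 184, 92, 86, 182, 222, 220, 204, 106, 208, 104, 214, 68, 232, 102, 100]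

/-- rows of u on the monomial part -/
def monoU : List ℕ := [61, 145, 6, 4, 50, 198, 14, 12, 221, 59, 209, 170, 136, 28, 26, 34, 138, 30, 74, 80, 155, 225, 141, 107, 207, 8, 132, 134, 105, 18, 0, 87, 215, 223, 73, 219, 68, 36, 143, 227, 38, 151, 201, 62, 101, 212, 176, 130, 149, 147, 88, 193, 56, 46, 237, 229, 114, 112, 122, 160, 239, 116, 233, 205, 235, 94, 52, 54, 24, 32, 44, 76, 2, 98, 96, 82, 174, 40, 162, 194, 118, 156, 178, 196, 231, 22, 203, 152, 92, 164, 190, 210, 216, 188, 186, 180, 102, 158, 166, 10, 84, 172, 126, 48, 20, 182, 90, 64, 184, 70, 16, 66, 42, 78, 110, 168, 124, 128, 108, 120]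
/-- codes of the monomial rows -/
def monoRows : Cfsg.Spor.Th.Gen → List ℕ
  | .a => monoA
  | .b => []
  | .c => monoC
  | .d => monoD
  | .e => monoE
  | .s => monoS
  | .t => monoT
  | .u => monoU

/-- target of a row -/
def tgt (g : Cfsg.Spor.Th.Gen) (i : ℕ) : ℕ := (monoRows g).getD i 0 / 2

/-- coefficient of a row -/
def cof (g : Cfsg.Spor.Th.Gen) (i : ℕ) : ℕ := (monoRows g).getD i 0 % 2 + 1

/-- the packed rows are monomial -/
def rowsOK (g : Cfsg.Spor.Th.Gen) : Bool :=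
  (List.range 120).all fun i =>
    Nat.beq (ThRep.gm g / (2 ^ ThRep.wd 248) ^ i % 2 ^ ThRep.wd 248)
      (cof g i * 4096 ^ tgt g i) && Nat.blt (tgt g i) 120

/-- every line is hit -/
def ontoOK (g : Cfsg.Spor.Th.Gen) : Bool :=
  (List.range 120).all fun k => (List.range 120).any fun i => Nat.beq (tgt g i) k

set_option maxRecDepth 100000 in
theorem rows_ok : (rowsOK .a && rowsOK .c && rowsOK .d && rowsOK .e && rowsOK .s && rowsOK .t &&
    rowsOK .u) = true := by decide +kernel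

set_option maxRecDepth 100000 in
theorem onto_ok : (ontoOK .a && ontoOK .c && ontoOK .d && ontoOK .e && ontoOK .s && ontoOK .t &&
    ontoOK .u) = true := by decide +kernel

theorem digit_single {δ k j : ℕ} (hδ : δ < 4096) :
    δ * 4096 ^ k / 4096 ^ j % 4096 = if j = k then δ else 0 := by
  rcases lt_trichotomy j k with h | h | h
  · obtain ⟨m, rfl⟩ : ∃ m, k = j + (m + 1) := ⟨k - j - 1, by omega⟩
    rw [if_neg (by omega), pow_add, ← mul_assoc, mul_comm δ, mul_assoc,
      Nat.mul_div_cancel_left _ (by positivity), pow_succ, ← mul_assoc]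
    exact Nat.mul_mod_left _ _
  · subst h
    rw [if_pos rfl, Nat.mul_div_cancel _ (by positivity), Nat.mod_eq_of_lt hδ]
  · obtain ⟨m, rfl⟩ : ∃ m, j = k + (m + 1) := ⟨j - k - 1, by omega⟩
    rw [if_neg (by omega), pow_add, ← Nat.div_div_eq_div_mul,
      Nat.mul_div_cancel _ (by positivity), Nat.div_eq_of_lt, Nat.zero_mod]
    calc δ < 4096 := hδ
      _ ≤ 4096 ^ (m + 1) := Nat.le_self_pow (by omega) _

/-- the representation on `CC` -/
noncomputable def rC : CC →* GL (Fin 248) (ZMod 3) := ThRep.rep248.comp CC.subtype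

attribute [local irreducible] rC

/-- a unit vector -/
def ev (i : Fin 248) : Fin 248 → ZMod 3 := Pi.single i 1

theorem ev_mul (i : Fin 248) (M : Matrix (Fin 248) (Fin 248) (ZMod 3)) :
    ev i ᵥ* M = M i := by
  ext j
  simp [ev, Matrix.single_one_vecMul]

theorem gen_row {g : Cfsg.Spor.Th.Gen} (hg : g ≠ .b) {i : ℕ} (hi : i < 120) :
    ∃ hk : tgt g i < 120, ev ⟨i, by omega⟩ ᵥ* (rC (cg g) : Matrix (Fin 248) (Fin 248) (ZMod 3)) =
      (cof g i : ZMod 3) • ev ⟨tgt g i, by omega⟩ := by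
  have hok : rowsOK g = true := by
    have h := rows_ok
    simp only [Bool.and_eq_true] at h
    cases g <;> first | exact absurd rfl hg | simp only [h]
  have h1 := (List.all_eq_true.mp hok) i (List.mem_range.mpr hi)
  simp only [Bool.and_eq_true, Nat.beq_eq] at h1
  have hk : tgt g i < 120 := Nat.le_of_ble_eq_true h1.2
  refine ⟨hk, ?_⟩
  have hv : (rC (cg g) : Matrix (Fin 248) (Fin 248) (ZMod 3)) = ThRep.mat 248 (ThRep.gm g) := by
    rw [← ThRep.rep248_of]
    have hg' : ((cg g : CC) : Cfsg.Spor.Th) = gen g := by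
      cases g <;> first | exact absurd rfl hg | rfl
    rw [rC, MonoidHom.comp_apply, Subgroup.coe_subtype, hg']
    rfl
  rw [ev_mul, hv]
  ext j
  have hδ : cof g i < 4096 := by unfold cof; omega
  simp only [ThRep.mat, ThRep.ent, Pi.smul_apply, ev, Pi.single_apply, smul_eq_mul]
  rw [h1.1, digit_single hδ]
  rcases eq_or_ne (j : ℕ) (tgt g i) with h | h
  · rw [if_pos h, if_pos (Fin.ext h), mul_one]
  · rw [if_neg h, if_neg (fun hh => h (congrArg Fin.val hh)), mul_zero, Nat.cast_zero]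

/-- the elements fixing each of the lines -/
def Fixes (x : CC) : Prop :=
  ∀ i : Fin 248, (i : ℕ) < 120 →
    ∃ ε : ZMod 3, ev i ᵥ* (rC x : Matrix (Fin 248) (Fin 248) (ZMod 3)) = ε • ev i

theorem fixes_mul {x y : CC} (hx : Fixes x) (hy : Fixes y) : Fixes (x * y) := by
  intro i hi
  obtain ⟨ε, h1⟩ := hx i hi
  obtain ⟨δ, h2⟩ := hy i hi
  refine ⟨ε * δ, ?_⟩
  rw [map_mul, Units.val_mul, ← Matrix.vecMul_vecMul, h1, Matrix.smul_vecMul, h2, smul_smul]

theorem fixes_inv {x : CC} (hx : Fixes x) : Fixes x⁻¹ := by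
  intro i hi
  obtain ⟨ε, h1⟩ := hx i hi
  have h2 : ev i = ε • (ev i ᵥ* (rC x⁻¹ : Matrix (Fin 248) (Fin 248) (ZMod 3))) := by
    rw [← Matrix.smul_vecMul, ← h1, Matrix.vecMul_vecMul, ← Units.val_mul, ← map_mul,
      mul_inv_cancel, map_one, Units.val_one, Matrix.vecMul_one]
  refine ⟨ε⁻¹, ?_⟩
  have hε : ε ≠ 0 := by
    rintro rfl
    rw [zero_smul] at h2
    have := congrFun h2 i
    simp [ev] at this
  conv_rhs => rw [h2]
  rw [smul_smul, inv_mul_cancel₀ hε, one_smul]

theorem fixes_one : Fixes 1 := fun i _ => ⟨1, by simp⟩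

/-- the subgroup fixing the lines -/
def FX : Subgroup CC where
  carrier := {x | Fixes x}
  mul_mem' := fixes_mul
  one_mem' := fixes_one
  inv_mem' := fixes_inv

theorem fixes_conj {g : Cfsg.Spor.Th.Gen} (hg : g ≠ .b) {x : CC} (hx : Fixes x) :
    Fixes ((cg g)⁻¹ * x * cg g) := by
  intro k hk
  have hon : ontoOK g = true := by
    have h := onto_ok
    simp only [Bool.and_eq_true] at h
    cases g <;> first | exact absurd rfl hg | simp only [h]
  have h0 := (List.all_eq_true.mp hon) k (List.mem_range.mpr hk)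
  simp only [List.any_eq_true, List.mem_range, Nat.beq_eq] at h0
  obtain ⟨i, hi, hik⟩ := h0
  obtain ⟨hk', hrow⟩ := gen_row hg hi
  obtain ⟨ε, hε⟩ := hx ⟨i, by omega⟩ hi
  have hkk : (⟨tgt g i, by omega⟩ : Fin 248) = k := Fin.ext hik
  rw [hkk] at hrow
  set δ : ZMod 3 := (cof g i : ZMod 3) with hδ
  have hd : δ ≠ 0 := by
    intro h
    rw [h, zero_smul] at hrow
    have h2 := congrArg (fun v : Fin 248 → ZMod 3 =>
      v ᵥ* (rC (cg g)⁻¹ : Matrix (Fin 248) (Fin 248) (ZMod 3))) hrow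
    simp only [Matrix.vecMul_vecMul, ← Units.val_mul, ← map_mul, mul_inv_cancel, map_one,
      Units.val_one, Matrix.vecMul_one, Matrix.zero_vecMul] at h2
    have := congrFun h2 ⟨i, by omega⟩
    simp [ev] at this
  have hinv : ev k ᵥ* (rC (cg g)⁻¹ : Matrix (Fin 248) (Fin 248) (ZMod 3)) = δ⁻¹ • ev ⟨i, by omega⟩ := by
    have h3 : ev k = δ⁻¹ • (ev ⟨i, by omega⟩ ᵥ* (rC (cg g) : Matrix (Fin 248) (Fin 248) (ZMod 3))) := by
      rw [hrow, smul_smul, inv_mul_cancel₀ hd, one_smul]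
    conv_lhs => rw [h3]
    rw [Matrix.smul_vecMul, Matrix.vecMul_vecMul, ← Units.val_mul, ← map_mul, mul_inv_cancel,
      map_one, Units.val_one, Matrix.vecMul_one]
  refine ⟨ε, ?_⟩
  rw [map_mul, map_mul, Units.val_mul, Units.val_mul, ← Matrix.vecMul_vecMul,
    ← Matrix.vecMul_vecMul, hinv, Matrix.smul_vecMul, hε, smul_smul, Matrix.smul_vecMul, hrow,
    smul_smul]
  congr 1
  field_simp

set_option maxRecDepth 100000 in
theorem c_fixes : Fixes (cg .c) := by
  intro i hi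
  obtain ⟨hk, h⟩ := gen_row (g := .c) (by simp) hi
  have hid : ∀ i < 120, tgt .c i = i := by decide +kernel
  refine ⟨(cof .c i : ZMod 3), ?_⟩
  rw [h]
  congr 2
  exact Fin.ext (hid _ hi)

set_option maxRecDepth 100000 in
theorem d_not_fixes : ¬ Fixes (cg .d) := by
  intro h
  obtain ⟨i, hi, hne⟩ : ∃ i < 120, tgt .d i ≠ i ∧ (cof .d i : ZMod 3) ≠ 0 := by decide +kernel
  obtain ⟨ε, h1⟩ := h ⟨i, by omega⟩ hi
  obtain ⟨hk, h2⟩ := gen_row (g := .d) (by simp) hi
  rw [h2] at h1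
  have := congrFun h1 ⟨tgt .d i, by omega⟩
  simp only [Pi.smul_apply, ev, Pi.single_apply, Fin.mk.injEq, if_pos, smul_eq_mul, mul_one] at this
  rw [if_neg hne.1, mul_zero] at this
  exact hne.2 this

theorem gens_normalize : FX.Normal := by
  have hn : ∀ g : Cfsg.Spor.Th.Gen, g ≠ .b → cg g ∈ Subgroup.normalizer (FX : Set CC) := by
    intro g hg
    have h1 : ∀ x : CC, x ∈ FX → (cg g)⁻¹ * x * cg g ∈ FX := fun x hx => fixes_conj hg hx
    haveI : Finite rC.range := inferInstance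
    have hinj : Function.Injective fun x : FX => (⟨_, h1 x x.2⟩ : FX) := by
      intro x y hxy
      have := congrArg Subtype.val hxy
      exact Subtype.ext (mul_left_cancel (mul_right_cancel this))
    rw [Subgroup.mem_normalizer_iff'']
    intro x
    refine ⟨h1 x, fun hx => ?_⟩
    -- powers of the inverse conjugation are reached inside the finite image
    have hk : ∀ n : ℕ, ∀ y ∈ FX, (cg g ^ n)⁻¹ * y * cg g ^ n ∈ FX := by
      intro n
      induction n with
      | zero => intro y hy; simpa using hy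
      | succ n ih =>
        intro y hy
        have := h1 _ (ih y hy)
        simpa [pow_succ, mul_assoc] using this
    obtain ⟨n, hn0, hn1⟩ : ∃ n, 0 < n ∧ rC (cg g) ^ n = 1 :=
      ⟨orderOf (rC (cg g)), orderOf_pos _, pow_orderOf_eq_one _⟩
    obtain ⟨m, rfl⟩ : ∃ m, n = m + 1 := ⟨n - 1, by omega⟩
    have h2 := hk m _ hx
    have h3 : (cg g ^ m)⁻¹ * ((cg g)⁻¹ * x * cg g) * cg g ^ m =
        (cg g ^ (m + 1))⁻¹ * x * cg g ^ (m + 1) := by
      rw [pow_succ']; group
    rw [h3] at h2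
    intro i hi
    obtain ⟨ε, he⟩ := h2 i hi
    exact ⟨ε, by simpa [map_mul, map_inv, map_pow, hn1] using he⟩
  have htop : Subgroup.closure {y : CC | ∃ g, g ≠ Cfsg.Spor.Th.Gen.b ∧ cg g = y} = ⊤ := by
    rw [eq_top_iff]
    rintro ⟨y, hy⟩ -
    have hle : CC ≤ (Subgroup.closure {y : CC | ∃ g, g ≠ Cfsg.Spor.Th.Gen.b ∧ cg g = y}).map
        CC.subtype := by
      refine (Subgroup.closure_le _).mpr ?_
      intro z hz
      simp only [Set.mem_insert_iff, Set.mem_singleton_iff] at hz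
      have hmem : ∀ g : Cfsg.Spor.Th.Gen, g ≠ .b → ((cg g : CC) : Cfsg.Spor.Th) = gen g →
          gen g ∈ (Subgroup.closure {y : CC | ∃ g, g ≠ Cfsg.Spor.Th.Gen.b ∧ cg g = y}).map
            CC.subtype :=
        fun g hg he => ⟨cg g, Subgroup.subset_closure ⟨g, hg, rfl⟩, he⟩
      rcases hz with rfl | rfl | rfl | rfl | rfl | rfl | rfl <;>
        exact hmem _ (by simp) rfl
    obtain ⟨w, hw, he⟩ := hle hy
    have : w = ⟨y, hy⟩ := Subtype.ext he
    exact this ▸ hw
  rw [← Subgroup.normalizer_eq_top_iff, eq_top_iff, ← htop, Subgroup.closure_le]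
  rintro _ ⟨g, hg, rfl⟩
  exact hn g hg

theorem QQ_ne_top : QQ ≠ ⊤ := by
  intro h
  haveI := gens_normalize
  have hle : QQ ≤ FX := Subgroup.normalClosure_le_normal (by
    rintro _ rfl
    exact c_fixes)
  exact d_not_fixes (hle (h ▸ Subgroup.mem_top (cg .d)))

end Cfsg.Agent.H40.Th
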