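import Cfsg.Agent.H40.Th.Proj
import Cfsg.Agent.H40.Th.Proper

/-!
Two invariants separating elements from the conjugates of `a` under `H = <a, b, c, d, e, s, t>` in
the presented Thompson group: commutation with the projection on the 52-dimensional summand, and
the rank of `P (y - 1)`.
-/

set_option autoImplicit false

namespace Cfsg.Agent.H40.Th

open Matrix Cfsg.Agent.H32 ThRep

attribute [local irreducible] ThRep.gm ThRep.gi ThRep.mat ThRep.rep248 ThRep.chk ThRep.okMat
  ThRep.idN Proj.mP Proj.mE Proj.mU Proj.mV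

/-- matrices over the field of three elements of size 248 -/
abbrev M248 : Type := Matrix (Fin 248) (Fin 248) (ZMod 3)

/-- the image of an element -/
noncomputable def rm (x : Cfsg.Spor.Th) : M248 := (rep248 x : M248)

theorem rm_mul (x y : Cfsg.Spor.Th) : rm (x * y) = rm x * rm y := by simp [rm]

theorem rm_one : rm 1 = 1 := by simp [rm]

theorem rm_gen (g : Cfsg.Spor.Th.Gen) : rm (gen g) = mat 248 (gm g) := ThRep.rep248_of g

/-- product of two checked packed matrices -/
theorem mat_mulV {X Y : ℕ} (hX : okMat 248 X = true) (hY : okMat 248 Y = true)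
    (h : stepOK 248 (prodRaw 248 X Y) (mulV X Y) = true) :
    okMat 248 (mulV X Y) = true ∧ mat 248 (mulV X Y) = mat 248 X * mat 248 Y :=
  mat_eq_mul (by norm_num) hX hY h

/-- the checks for commutation of the projection with one generator -/
def commOK (X : ℕ) : Bool :=
  stepOK 248 (prodRaw 248 Proj.mP X) (mulV Proj.mP X) &&
    stepOK 248 (prodRaw 248 X Proj.mP) (mulV X Proj.mP) &&
    Nat.beq (mulV Proj.mP X) (mulV X Proj.mP)

theorem ok_P : okMat 248 Proj.mP = true := by decide +kernel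

theorem ok_gm (g : Cfsg.Spor.Th.Gen) : okMat 248 (gm g) = true := by
  have := ThRep.okMat_lm (g, true)
  simpa [ThRep.lm] using this

theorem comm_a : commOK (gm .a) = true := by decide +kernel

theorem comm_b : commOK (gm .b) = true := by decide +kernel

theorem comm_c : commOK (gm .c) = true := by decide +kernel

theorem comm_d : commOK (gm .d) = true := by decide +kernel

theorem comm_e : commOK (gm .e) = true := by decide +kernel

theorem comm_s : commOK (gm .s) = true := by decide +kernel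

theorem comm_t : commOK (gm .t) = true := by decide +kernel

/-- the projection -/
noncomputable def P52 : M248 := mat 248 Proj.mP

theorem commute_gen {g : Cfsg.Spor.Th.Gen} (hg : g ≠ .u) : P52 * rm (gen g) = rm (gen g) * P52 := by
  have h : commOK (gm g) = true := by
    cases g
    · exact comm_a
    · exact comm_b
    · exact comm_c
    · exact comm_d
    · exact comm_e
    · exact comm_s
    · exact comm_t
    · exact absurd rfl hg
  simp only [commOK, Bool.and_eq_true, Nat.beq_eq] at h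
  rw [P52, rm_gen, ← (mat_mulV ok_P (ok_gm g) h.1.1).2, h.2, (mat_mulV (ok_gm g) ok_P h.1.2).2]

/-- the subgroup `<a, b, c, d, e, s, t>` -/
def HH : Subgroup Cfsg.Spor.Th :=
  Subgroup.closure {gen .a, gen .b, gen .c, gen .d, gen .e, gen .s, gen .t}

theorem commute_mem {h : Cfsg.Spor.Th} (hh : h ∈ HH) : P52 * rm h = rm h * P52 := by
  induction hh using Subgroup.closure_induction with
  | mem x hx =>
    simp only [Set.mem_insert_iff, Set.mem_singleton_iff] at hx
    rcases hx with rfl | rfl | rfl | rfl | rfl | rfl | rfl <;> exact commute_gen (by simp)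
  | one => simp [rm_one]
  | mul x y _ _ ihx ihy => rw [rm_mul, ← mul_assoc, ihx, mul_assoc, ihy, mul_assoc]
  | inv x _ ih =>
    have h1 : rm x⁻¹ * rm x = 1 := by rw [← rm_mul, inv_mul_cancel, rm_one]
    have h2 : rm x * rm x⁻¹ = 1 := by rw [← rm_mul, mul_inv_cancel, rm_one]
    calc P52 * rm x⁻¹ = rm x⁻¹ * rm x * P52 * rm x⁻¹ := by rw [h1, one_mul]
      _ = rm x⁻¹ * (P52 * rm x) * rm x⁻¹ := by rw [ih]; simp only [mul_assoc]
      _ = rm x⁻¹ * P52 := by rw [mul_assoc, mul_assoc P52, h2, mul_one]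

/-- the minus-space projection of `a` -/
noncomputable def E128 : M248 := mat 248 Proj.mE

/-- rows of `a` and of its minus-space projection -/
def diagOK : Bool :=
  (List.range 248).all fun i =>
    (Nat.beq (gm .a / (2 ^ wd 248) ^ i % 2 ^ wd 248) (1 * 4096 ^ i) &&
        Nat.beq (Proj.mE / (2 ^ wd 248) ^ i % 2 ^ wd 248) (0 * 4096 ^ i)) ||
      (Nat.beq (gm .a / (2 ^ wd 248) ^ i % 2 ^ wd 248) (2 * 4096 ^ i) &&
        Nat.beq (Proj.mE / (2 ^ wd 248) ^ i % 2 ^ wd 248) (1 * 4096 ^ i))

theorem diag_ok : diagOK = true := by decide +kernel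

theorem rm_a_sub_one : rm (gen .a) - 1 = E128 := by
  have hmat : ∀ X (i j : Fin 248),
      mat 248 X i j = ((X / (2 ^ wd 248) ^ (i : ℕ) % 2 ^ wd 248 / 4096 ^ (j : ℕ) % 4096 : ℕ) : ZMod 3) := by
    intro X i j
    unfold ThRep.mat ThRep.ent
    rfl
  have h := diag_ok
  simp only [diagOK, List.all_eq_true, List.mem_range, Bool.or_eq_true, Bool.and_eq_true,
    Nat.beq_eq] at h
  have hj : ∀ i j : Fin 248, (if (j : ℕ) = (i : ℕ) then (1 : ℕ) else 0) =
      if i = j then 1 else 0 := fun i j => by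
    rcases eq_or_ne i j with rfl | hne
    · simp
    · rw [if_neg hne, if_neg (fun hh => hne (Fin.ext hh.symm))]
  ext i j
  rw [Matrix.sub_apply, rm_gen, E128, hmat, hmat, Matrix.one_apply]
  rcases h i i.isLt with ⟨h1, h2⟩ | ⟨h1, h2⟩
  · rw [h1, h2, digit_single (by norm_num), digit_single (by norm_num), hj]
    split_ifs <;> decide
  · rw [h1, h2, digit_single (by norm_num), digit_single (by norm_num), hj]
    have : (if (j : ℕ) = (i : ℕ) then 2 else 0) = 2 * if i = j then 1 else 0 := by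
      rw [← hj]; split_ifs <;> rfl
    rw [this]
    split_ifs <;> decide

/-- the factorisation checks -/
def factorOK : Bool :=
  okMat 248 Proj.mE && okMat 248 Proj.mU && okMat 248 Proj.mV &&
    stepOK 248 (prodRaw 248 Proj.mP Proj.mE) (mulV Proj.mP Proj.mE) &&
    stepOK 248 (prodRaw 248 Proj.mU Proj.mV) (mulV Proj.mU Proj.mV) &&
    Nat.beq (mulV Proj.mP Proj.mE) (mulV Proj.mU Proj.mV) &&
    Nat.blt Proj.mV ((2 ^ wd 248) ^ 16)

theorem factor_ok : factorOK = true := by decide +kernel

theorem div_pow_eq_zero {x b i k : ℕ} (hb : 0 < b) (hx : x < b ^ k) (h : k ≤ i) : x / b ^ i = 0 :=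
  Nat.div_eq_of_lt (hx.trans_le (Nat.pow_le_pow_right hb h))

theorem rank_PE : (P52 * E128).rank ≤ 16 := by
  have h := factor_ok
  simp only [factorOK, Bool.and_eq_true, Nat.beq_eq] at h
  obtain ⟨⟨⟨⟨⟨⟨hE, hU⟩, hV⟩, h1⟩, h2⟩, h3⟩, hlt⟩ := h
  have hlt' : Proj.mV < (2 ^ wd 248) ^ 16 := Nat.le_of_ble_eq_true hlt
  have hzero : ∀ (i : Fin 248) (j : Fin 248), 16 ≤ (i : ℕ) → mat 248 Proj.mV i j = 0 := by
    intro i j hi
    have hb : ∀ k : ℕ, 0 < 2 ^ k := fun k => Nat.two_pow_pos k
    have : Proj.mV / (2 ^ wd 248) ^ (i : ℕ) = 0 := div_pow_eq_zero (hb (wd 248)) hlt' hi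
    unfold ThRep.mat ThRep.ent
    change (((Proj.mV / (2 ^ wd 248) ^ (i : ℕ) % 2 ^ wd 248) / 4096 ^ (j : ℕ) % 4096 : ℕ) : ZMod 3) = 0
    rw [this, Nat.zero_mod, Nat.zero_div, Nat.zero_mod, Nat.cast_zero]
  have heq : P52 * E128 =
      (mat 248 Proj.mU).submatrix id (Fin.castLE (by norm_num : 16 ≤ 248)) *
        (mat 248 Proj.mV).submatrix (Fin.castLE (by norm_num : 16 ≤ 248)) id := by
    rw [P52, E128, ← (mat_mulV ok_P hE h1).2, h3, (mat_mulV hU hV h2).2]
    ext i j
    simp only [Matrix.mul_apply, Matrix.submatrix_apply, id]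
    rw [← Fintype.sum_of_injective (Fin.castLE (by norm_num : 16 ≤ 248))
      (Fin.castLE_injective _) (fun k => mat 248 Proj.mU i (Fin.castLE (by norm_num) k) *
        mat 248 Proj.mV (Fin.castLE (by norm_num) k) j)
      (fun k => mat 248 Proj.mU i k * mat 248 Proj.mV k j)]
    · intro k hk
      rw [hzero k j, mul_zero]
      by_contra hlt
      exact hk ⟨⟨k, by omega⟩, Fin.ext rfl⟩
    · intro k
      rfl
  rw [heq]
  exact (Matrix.rank_mul_le_left _ _).trans ((Matrix.rank_le_card_width _).trans (by simp))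

/-- conjugates of `a` under `H` commute with the projection -/
theorem commute_of_conj {h : Cfsg.Spor.Th} (hh : h ∈ HH) :
    P52 * rm (h⁻¹ * gen .a * h) = rm (h⁻¹ * gen .a * h) * P52 :=
  commute_mem (mul_mem (mul_mem (inv_mem hh) (Subgroup.subset_closure (by simp))) hh)

/-- conjugates of `a` under `H` have small rank on the summand -/
theorem rank_of_conj {h : Cfsg.Spor.Th} (hh : h ∈ HH) :
    (P52 * (rm (h⁻¹ * gen .a * h) - 1)).rank ≤ 16 := by
  have h1 : rm h⁻¹ * rm h = 1 := by rw [← rm_mul, inv_mul_cancel, rm_one]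
  have h2 : P52 * (rm (h⁻¹ * gen .a * h) - 1) = rm h⁻¹ * (P52 * E128) * rm h := by
    have h3 : rm (h⁻¹ * gen .a * h) - 1 = rm h⁻¹ * E128 * rm h := by
      rw [← rm_a_sub_one, mul_sub, mul_one, sub_mul, h1, rm_mul, rm_mul]
    rw [h3, ← mul_assoc, ← mul_assoc, commute_mem (inv_mem hh)]
    simp only [mul_assoc]
  rw [h2]
  exact ((Matrix.rank_mul_le_left _ _).trans (Matrix.rank_mul_le_right _ _)).trans rank_PE

end Cfsg.Agent.H40.Th
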