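import Cfsg.Agent.H40.Th.Data
import Cfsg.Agent.H92.QuotLarge

/-!
Nine conjugate involutions commuting pairwise up to a central involution; eight of them generate
an extraspecial group of order at least 512.
-/

set_option autoImplicit false

namespace Cfsg.Agent.H40.Th

open Cfsg.Agent.H45 Data

variable {G : Type*} [Group G]

/-- the local configuration: letters `d, e, s, s⁻¹`, the central involution `a` and its partner
`c` -/
structure LocalRels (a c : G) (e : ℕ → G) : Prop where
  rel : ∀ w ∈ dat9.R, evalW e w = 1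
  out : ∀ l, 4 ≤ l → e l = 1
  a_ne : a ≠ 1
  a_sq : a * a = 1
  a_comm : ∀ l, e l * a = a * e l
  a_c : c * a = a * c
  c_sq : c * c = 1
  cd : (c * e 0) ^ 4 = a
  c_e : e 1 * c = c * e 1
  c_s : e 2 * c = c * e 2

variable {a c : G} {e : ℕ → G}

theorem LocalRels.inv (h : LocalRels a c e) (l : ℕ) : e (linv dat9.iv l) = (e l)⁻¹ := by
  have h00 : e 0 * e 0 = 1 := by simpa [evalW] using h.rel [0, 0] (by decide)
  have h11 : e 1 * e 1 = 1 := by simpa [evalW] using h.rel [1, 1] (by decide)
  have h23 : e 2 * e 3 = 1 := by simpa [evalW] using h.rel [2, 3] (by decide)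
  rcases l with _ | _ | _ | _ | l
  · exact eq_inv_of_mul_eq_one_left h00
  · exact eq_inv_of_mul_eq_one_left h11
  · exact eq_inv_of_mul_eq_one_right h23
  · exact eq_inv_of_mul_eq_one_left h23
  · have h1 : linv dat9.iv (l + 4) = l + 4 := by simp [linv, dat9]
    rw [h1, h.out _ (by omega), inv_one]

set_option maxRecDepth 100000 in
theorem close9 : closeCheck dat9 9 tree9 blks9 = true := by decide +kernel

/-- image of a point under a word -/
def mv (w : List ℕ) (i : ℕ) : ℕ := w.foldl (fun p l => tget dat9.cols p l) i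

/-- words reaching every pair of distinct points from a pair at zero -/
def pairOK : Bool :=
  (List.range 9).all fun i => (List.range 9).all fun j => (i == j) ||
    ([[], [0], [0, 1], [0, 1, 2], [0, 1, 3], [0, 1, 2, 2], [0, 1, 3, 3], [0, 1, 2, 2, 2],
      [0, 1, 3, 3, 3]].any fun w =>
        mv w 0 == i && (List.range 9).any fun k => k != 0 && mv w k == j)

/-- the nine conjugates -/
noncomputable def LocalRels.nine (h : LocalRels a c e) :
    {q : ℕ → G // q 0 = c ∧ (∀ i, ∃ g ∈ Subgroup.closure (Set.range e), q i = g⁻¹ * c * g) ∧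
      ∀ i, i < 9 → ∀ l, l < 4 → q (tget dat9.cols i l) = (e l)⁻¹ * q i * e l} := by
  apply Classical.indefiniteDescription
  let H : Subgroup G := Subgroup.centralizer {c}
  have hD : Hyp dat9 e H := by
    refine ⟨h.inv, h.rel, fun w hw => ?_⟩
    have : w = [1] ∨ w = [2] := by simpa [dat9] using hw
    rcases this with rfl | rfl <;>
      simp [evalW, H, Subgroup.mem_centralizer_singleton_iff, h.c_e, h.c_s]
  obtain ⟨-, w, hw0, hwE, hw⟩ := closeCheck_sound hD (E := Subgroup.closure (Set.range e))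
    (fun l _ => Subgroup.subset_closure ⟨l, rfl⟩) close9
  refine ⟨fun i => (w i)⁻¹ * c * w i, by simp [hw0], fun i => ⟨w i, hwE i, rfl⟩, ?_⟩
  intro i hi l hl
  have h1 := Subgroup.mem_centralizer_singleton_iff.mp (hw i hi l hl)
  set x := w i * e l * (w (tget dat9.cols i l))⁻¹ with hx
  have h2 : w (tget dat9.cols i l) = x⁻¹ * (w i * e l) := by rw [hx]; group
  change (w (tget dat9.cols i l))⁻¹ * c * w (tget dat9.cols i l) = (e l)⁻¹ * ((w i)⁻¹ * c * w i) * e l
  rw [h2]
  calc (x⁻¹ * (w i * e l))⁻¹ * c * (x⁻¹ * (w i * e l))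
      = (w i * e l)⁻¹ * (x * c * x⁻¹) * (w i * e l) := by group
    _ = (w i * e l)⁻¹ * c * (w i * e l) := by rw [h1, mul_inv_cancel_right]
    _ = _ := by group

/-- the involution of a point -/
noncomputable def LocalRels.q (h : LocalRels a c e) : ℕ → G := h.nine.1

theorem LocalRels.q_zero (h : LocalRels a c e) : h.q 0 = c := h.nine.2.1

theorem LocalRels.q_conj (h : LocalRels a c e) (i : ℕ) :
    ∃ g ∈ Subgroup.closure (Set.range e), h.q i = g⁻¹ * c * g := h.nine.2.2.1 i

theorem LocalRels.q_move (h : LocalRels a c e) {i l : ℕ} (hi : i < 9) (hl : l < 4) :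
    h.q (tget dat9.cols i l) = (e l)⁻¹ * h.q i * e l := h.nine.2.2.2 i hi l hl

theorem LocalRels.a_fixed (h : LocalRels a c e) (l : ℕ) : (e l)⁻¹ * a * e l = a := by
  rw [mul_assoc, ← h.a_comm, inv_mul_cancel_left]

theorem LocalRels.q_sq (h : LocalRels a c e) (i : ℕ) : h.q i * h.q i = 1 := by
  obtain ⟨g, -, hg⟩ := h.q_conj i
  rw [hg, show g⁻¹ * c * g * (g⁻¹ * c * g) = g⁻¹ * (c * c) * g by group, h.c_sq]
  group

theorem LocalRels.q_a (h : LocalRels a c e) (i : ℕ) : h.q i * a = a * h.q i := by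
  obtain ⟨g, hg, hq⟩ := h.q_conj i
  have hga : g ∈ Subgroup.centralizer {a} := by
    refine (Subgroup.closure_le _).mpr ?_ hg
    rintro _ ⟨l, rfl⟩
    exact Subgroup.mem_centralizer_singleton_iff.mpr (h.a_comm l)
  have h1 := Subgroup.mem_centralizer_singleton_iff.mp hga
  have h2 := Subgroup.mem_centralizer_singleton_iff.mp (inv_mem hga)
  rw [hq, mul_assoc, h1, ← mul_assoc, mul_assoc g⁻¹ c a, h.a_c, ← mul_assoc g⁻¹ a c, h2]
  simp [mul_assoc]

/-- two members commute up to `a` -/
def LocalRels.Pair (h : LocalRels a c e) (i j : ℕ) : Prop :=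
  h.q i * h.q j = a * (h.q j * h.q i)

theorem LocalRels.pair_move (h : LocalRels a c e) {i j l : ℕ} (hi : i < 9) (hj : j < 9)
    (hl : l < 4) (hp : h.Pair i j) : h.Pair (tget dat9.cols i l) (tget dat9.cols j l) := by
  unfold LocalRels.Pair at hp ⊢
  rw [h.q_move hi hl, h.q_move hj hl]
  calc (e l)⁻¹ * h.q i * e l * ((e l)⁻¹ * h.q j * e l)
      = (e l)⁻¹ * (h.q i * h.q j) * e l := by group
    _ = (e l)⁻¹ * (a * (h.q j * h.q i)) * e l := by rw [hp]
    _ = ((e l)⁻¹ * a * e l) * ((e l)⁻¹ * h.q j * e l * ((e l)⁻¹ * h.q i * e l)) := by group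
    _ = _ := by rw [h.a_fixed]

set_option maxRecDepth 100000 in
theorem mv_lt : ∀ i < 9, ∀ l < 4, tget dat9.cols i l < 9 := by decide +kernel

theorem LocalRels.pair_word (h : LocalRels a c e) : ∀ (w : List ℕ) (i j : ℕ), i < 9 → j < 9 →
    (∀ l ∈ w, l < 4) → h.Pair i j → h.Pair (mv w i) (mv w j) := by
  intro w
  induction w with
  | nil => intro i j _ _ _ hp; exact hp
  | cons l w ih =>
    intro i j hi hj hw hp
    simp only [mv, List.foldl_cons]
    exact ih _ _ (mv_lt i hi l (hw l (by simp))) (mv_lt j hj l (hw l (by simp)))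
      (fun x hx => hw x (by simp [hx])) (h.pair_move hi hj (hw l (by simp)) hp)

set_option maxRecDepth 100000 in
theorem LocalRels.pair_zero (h : LocalRels a c e) : ∀ k, 0 < k → k < 9 → h.Pair 0 k := by
  have hd : e 0 * e 0 = 1 := by simpa [evalW] using h.rel [0, 0] (by decide)
  have h1 : h.Pair 0 1 := by
    have hq : h.q 1 = (e 0)⁻¹ * c * e 0 := by
      have := h.q_move (i := 0) (l := 0) (by omega) (by omega)
      rwa [h.q_zero, show tget dat9.cols 0 0 = 1 by decide +kernel] at this
    unfold LocalRels.Pair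
    rw [h.q_zero, hq, ← eq_inv_of_mul_eq_one_left hd]
    have h4 : a = c * (e 0 * c * e 0) * c * (e 0 * c * e 0) := by
      rw [← h.cd]; simp [pow_succ, mul_assoc]
    calc c * (e 0 * c * e 0)
        = c * (e 0 * c * e 0) * c * ((e 0 * c * e 0) * (e 0 * c * e 0)) * c := by
          rw [show e 0 * c * e 0 * (e 0 * c * e 0) = e 0 * (c * (e 0 * e 0) * c) * e 0 by group,
            hd, mul_one, h.c_sq, mul_one, hd, mul_one, mul_assoc (c * (e 0 * c * e 0)), h.c_sq,
            mul_one]
      _ = _ := by rw [h4]; simp only [mul_assoc]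
  have hfix : ∀ l, 1 ≤ l → l < 4 → tget dat9.cols 0 l = 0 := by decide +kernel
  have hmove : ∀ w : List ℕ, (∀ l ∈ w, 1 ≤ l ∧ l < 4) → h.Pair 0 (mv w 1) := by
    intro w hw
    have h0 : ∀ v : List ℕ, (∀ l ∈ v, 1 ≤ l ∧ l < 4) → mv v 0 = 0 := by
      intro v
      induction v with
      | nil => intro _; rfl
      | cons l v ih =>
        intro hv
        simp only [mv, List.foldl_cons]
        rw [hfix l (hv l (by simp)).1 (hv l (by simp)).2]
        exact ih fun x hx => hv x (by simp [hx])
    have := h.pair_word w 0 1 (by omega) (by omega) (fun l hl => (hw l hl).2) h1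
    rwa [h0 w hw] at this
  intro k hk hk9
  have hex : ∀ k, k < 9 → 0 < k → ∃ w ∈ [[], [1], [1, 2], [1, 2, 2], [1, 2, 2, 2], [1, 3],
      [1, 3, 3], [1, 3, 3, 3]], mv w 1 = k ∧ ∀ l ∈ w, 1 ≤ l ∧ l < 4 := by decide +kernel
  obtain ⟨w, -, hwk, hwl⟩ := hex k hk9 hk
  exact hwk ▸ hmove w hwl

set_option maxRecDepth 100000 in
theorem LocalRels.pair (h : LocalRels a c e) {i j : ℕ} (hi : i < 9) (hj : j < 9) (hij : i ≠ j) :
    h.Pair i j := by
  have hd : pairOK = true := by decide +kernel
  simp only [pairOK, List.all_eq_true, List.mem_range, Bool.or_eq_true, beq_iff_eq,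
    List.any_eq_true, Bool.and_eq_true, bne_iff_ne, ne_eq] at hd
  rcases hd i hi j hj with h' | ⟨w, hw, hwi, k, hk, hk0, hwj⟩
  · exact absurd h' hij
  · have hl : ∀ l ∈ w, l < 4 :=
      (by decide +kernel : ∀ v ∈ ([[], [0], [0, 1], [0, 1, 2], [0, 1, 3], [0, 1, 2, 2],
        [0, 1, 3, 3], [0, 1, 2, 2, 2], [0, 1, 3, 3, 3]] : List (List ℕ)), ∀ l ∈ v, l < 4) w hw
    have := h.pair_word w 0 k (by omega) hk hl (h.pair_zero k (Nat.pos_of_ne_zero hk0) hk)
    rwa [hwi, hwj] at this

/-- the group of the first eight involutions -/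
def LocalRels.K (h : LocalRels a c e) : Subgroup G :=
  Subgroup.closure (Set.range fun i : Fin 8 => h.q i)

theorem LocalRels.q_mem (h : LocalRels a c e) (i : Fin 8) : h.q i ∈ h.K :=
  Subgroup.subset_closure ⟨i, rfl⟩

theorem LocalRels.a_mem (h : LocalRels a c e) : a ∈ h.K := by
  have hp := h.pair (i := 0) (j := 1) (by omega) (by omega) (by omega)
  have h1 : h.q 0 * h.q 1 * (h.q 1 * h.q 0)⁻¹ = a := by rw [hp, mul_inv_cancel_right]
  exact (congrArg (· ∈ h.K) h1).mp
    (mul_mem (mul_mem (h.q_mem 0) (h.q_mem 1)) (inv_mem (mul_mem (h.q_mem 1) (h.q_mem 0))))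

/-- commutes with `a` -/
theorem LocalRels.K_a (h : LocalRels a c e) {x : G} (hx : x ∈ h.K) : x * a = a * x := by
  have hle : h.K ≤ Subgroup.centralizer {a} := by
    refine (Subgroup.closure_le _).mpr ?_
    rintro _ ⟨i, rfl⟩
    exact Subgroup.mem_centralizer_singleton_iff.mpr (h.q_a i)
  exact Subgroup.mem_centralizer_singleton_iff.mp (hle hx)

/-- commutation with an element of the group, up to `a` -/
theorem LocalRels.comm_or (h : LocalRels a c e) {x y : G} (hx : x ∈ h.K) (hy : y ∈ h.K) :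
    x * y = y * x ∨ x * y = a * (y * x) := by
  have step : ∀ z ∈ h.K, (∀ i : Fin 8, z * h.q i = h.q i * z ∨ z * h.q i = a * (h.q i * z)) →
      ∀ u ∈ h.K, z * u = u * z ∨ z * u = a * (u * z) := by
    intro z hz hgen u hu
    induction hu using Subgroup.closure_induction with
    | mem u hu => obtain ⟨i, rfl⟩ := hu; exact hgen i
    | one => simp
    | mul u v hu hv ihu ihv =>
      have hua := h.K_a (x := u) hu
      rcases ihu with h1 | h1 <;> rcases ihv with h2 | h2
      · left; rw [← mul_assoc, h1, mul_assoc, h2, mul_assoc]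
      · right; rw [← mul_assoc, h1, mul_assoc, h2, ← mul_assoc, hua]; simp only [mul_assoc]
      · right; rw [← mul_assoc, h1]; simp only [mul_assoc]; rw [h2]
      · left
        rw [← mul_assoc, h1, mul_assoc a, mul_assoc u, h2, ← mul_assoc u a, hua]
        simp only [← mul_assoc]
        rw [h.a_sq, one_mul]
    | inv u hu ih =>
      rcases ih with h1 | h1
      · left
        calc z * u⁻¹ = u⁻¹ * (u * z) * u⁻¹ := by group
          _ = _ := by rw [← h1]; group
      · right
        have hua := h.K_a (x := u⁻¹) (inv_mem hu)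
        calc z * u⁻¹ = u⁻¹ * (u * z) * u⁻¹ := by group
          _ = u⁻¹ * (a * (z * u)) * u⁻¹ := by
              rw [h1, ← mul_assoc a a, h.a_sq, one_mul]
          _ = a * (u⁻¹ * z) := by rw [← mul_assoc u⁻¹ a, hua]; group
  refine step x hx (fun i => ?_) y hy
  have hgen : ∀ j : Fin 8, h.q i * h.q j = h.q j * h.q i ∨ h.q i * h.q j = a * (h.q j * h.q i) := by
    intro j
    rcases eq_or_ne i j with rfl | hij
    · exact Or.inl rfl
    · exact Or.inr (h.pair (by omega) (by omega) (fun hh => hij (Fin.ext hh)))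
  rcases step _ (h.q_mem i) hgen x hx with h1 | h1
  · exact Or.inl h1.symm
  · exact Or.inr (by rw [h1, ← mul_assoc a a, h.a_sq, one_mul])

open Classical in
/-- the commutation vector -/
noncomputable def LocalRels.chi (h : LocalRels a c e) :
    h.K →* Multiplicative (Fin 8 → ZMod 2) where
  toFun x := Multiplicative.ofAdd fun j => if (x : G) * h.q j = h.q j * x then 0 else 1
  map_one' := by
    apply Multiplicative.toAdd.injective
    ext j
    simp
  map_mul' x y := by
    apply Multiplicative.toAdd.injective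
    ext j
    have hne : ∀ z : G, a * z ≠ z := fun z hz => h.a_ne (mul_eq_right.mp hz)
    have hxa := h.K_a x.2
    simp only [toAdd_ofAdd, toAdd_mul, Pi.add_apply, Subgroup.coe_mul]
    rcases h.comm_or x.2 (h.q_mem j) with h1 | h1 <;>
      rcases h.comm_or y.2 (h.q_mem j) with h2 | h2
    · have h3 : (x : G) * y * h.q j = h.q j * (x * y) := by
        rw [mul_assoc, h2, ← mul_assoc, h1, mul_assoc]
      rw [if_pos h1, if_pos h2, if_pos h3, add_zero]
    · have h3 : (x : G) * y * h.q j = a * (h.q j * (x * y)) := by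
        rw [mul_assoc, h2, ← mul_assoc (x : G) a, hxa, mul_assoc a, ← mul_assoc (x : G) (h.q j), h1]
        simp only [mul_assoc]
      rw [if_pos h1, if_neg (fun hh => hne _ (h2.symm.trans hh)),
        if_neg (fun hh => hne _ (h3.symm.trans hh)), zero_add]
    · have h3 : (x : G) * y * h.q j = a * (h.q j * (x * y)) := by
        rw [mul_assoc, h2, ← mul_assoc, h1]
        simp only [mul_assoc]
      rw [if_neg (fun hh => hne _ (h1.symm.trans hh)), if_pos h2,
        if_neg (fun hh => hne _ (h3.symm.trans hh)), add_zero]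
    · have h3 : (x : G) * y * h.q j = h.q j * (x * y) := by
        rw [mul_assoc, h2, ← mul_assoc (x : G) a, hxa, mul_assoc a, ← mul_assoc (x : G) (h.q j), h1]
        simp only [← mul_assoc]
        rw [h.a_sq, one_mul]
      rw [if_neg (fun hh => hne _ (h1.symm.trans hh)), if_neg (fun hh => hne _ (h2.symm.trans hh)),
        if_pos h3]
      rfl

theorem LocalRels.chi_q (h : LocalRels a c e) (i : Fin 8) :
    Multiplicative.toAdd (h.chi ⟨h.q i, h.q_mem i⟩) = fun j => if i = j then 0 else 1 := by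
  ext j
  simp only [LocalRels.chi, MonoidHom.coe_mk, OneHom.coe_mk, toAdd_ofAdd]
  rcases eq_or_ne i j with rfl | hij
  · simp
  · rw [if_neg hij, if_neg]
    rw [h.pair (i := i) (j := j) (by omega) (by omega) (fun hh => hij (Fin.ext hh))]
    exact fun hz => h.a_ne (mul_eq_right.mp hz)

set_option maxRecDepth 100000 in
theorem span_rows : ∀ k : Fin 8, (∑ i ∈ Finset.univ.erase k,
    (fun j : Fin 8 => if i = j then (0 : ZMod 2) else 1)) = Pi.single k 1 := by decide +kernel

theorem LocalRels.chi_surjective (h : LocalRels a c e) : Function.Surjective h.chi := by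
  intro v
  let R : AddSubgroup (Fin 8 → ZMod 2) :=
    { carrier := {u | ∃ x, Multiplicative.toAdd (h.chi x) = u}
      zero_mem' := ⟨1, by simp⟩
      add_mem' := by
        rintro _ _ ⟨x, rfl⟩ ⟨y, rfl⟩
        exact ⟨x * y, by simp⟩
      neg_mem' := by
        rintro _ ⟨x, rfl⟩
        exact ⟨x⁻¹, by simp⟩ }
  have hs : ∀ k, (Pi.single k (1 : ZMod 2) : Fin 8 → ZMod 2) ∈ R := by
    intro k
    rw [← span_rows k]
    exact sum_mem fun i _ => ⟨⟨h.q i, h.q_mem i⟩, h.chi_q i⟩
  have h01 : ∀ x : ZMod 2, x = 0 ∨ x = 1 := by decide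
  have hv : Multiplicative.toAdd v ∈ R := by
    rw [← Finset.univ_sum_single (Multiplicative.toAdd v)]
    refine sum_mem fun k _ => ?_
    rcases h01 (Multiplicative.toAdd v k) with h0 | h0
    · rw [h0, Pi.single_zero]; exact zero_mem _
    · rw [h0]; exact hs k
  obtain ⟨x, hx⟩ := hv
  exact ⟨x, Multiplicative.toAdd.injective hx⟩

theorem LocalRels.card_K_ge (h : LocalRels a c e) [Finite G] : 512 ≤ Nat.card h.K := by
  have h1 : h.chi.ker.index = 256 := by
    rw [Subgroup.index_ker, MonoidHom.range_eq_top.mpr h.chi_surjective, Subgroup.card_top,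
      Nat.card_eq_fintype_card]
    simp
  have h2 : 2 ≤ Nat.card h.chi.ker := by
    have hmem : (⟨a, h.a_mem⟩ : h.K) ∈ h.chi.ker := by
      rw [MonoidHom.mem_ker]
      apply Multiplicative.toAdd.injective
      ext j
      simp [LocalRels.chi, h.q_a]
    have : h.chi.ker ≠ ⊥ := by
      intro hb
      rw [hb, Subgroup.mem_bot] at hmem
      exact h.a_ne (congrArg Subtype.val hmem)
    exact Subgroup.one_lt_card_iff_ne_bot _ |>.mpr this
  rw [← Subgroup.card_mul_index h.chi.ker, h1]
  omega

theorem LocalRels.isExtraspecial (h : LocalRels a c e) [Finite G]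
    (hK : Nat.card h.K = 512) : Cfsg.IsExtraspecial 2 h.K := by
  have hker : Nat.card h.chi.ker = 2 := by
    have h1 : h.chi.ker.index = 256 := by
      rw [Subgroup.index_ker, MonoidHom.range_eq_top.mpr h.chi_surjective, Subgroup.card_top,
        Nat.card_eq_fintype_card]
      simp
    have h2 := Subgroup.card_mul_index h.chi.ker
    rw [h1, hK] at h2
    omega
  have ha : (⟨a, h.a_mem⟩ : h.K) ∈ h.chi.ker := by
    rw [MonoidHom.mem_ker]
    apply Multiplicative.toAdd.injective
    ext j
    simp [LocalRels.chi, h.q_a]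
  have hζ : (⟨a, h.a_mem⟩ : h.K) ≠ 1 := fun hh => h.a_ne (congrArg Subtype.val hh)
  have hcen : ∀ x : h.K, x ∈ h.chi.ker → x = 1 ∨ x = ⟨a, h.a_mem⟩ := by
    intro x hx
    by_contra hcon
    push Not at hcon
    obtain ⟨u, v, -, huv⟩ := Nat.card_eq_two_iff.mp hker
    have hm : ∀ z : h.chi.ker, z = u ∨ z = v := fun z => by
      have : z ∈ ({u, v} : Set h.chi.ker) := huv ▸ Set.mem_univ z
      simpa using this
    rcases hm 1 with h1 | h1 <;> rcases hm ⟨_, ha⟩ with h2 | h2 <;>
      rcases hm ⟨x, hx⟩ with h3 | h3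
    all_goals first
      | exact hζ (congrArg Subtype.val (h2.trans h1.symm))
      | exact hcon.1 (congrArg Subtype.val (h3.trans h1.symm))
      | exact hcon.2 (congrArg Subtype.val (h3.trans h2.symm))
  have haa : ∀ y : h.K, y * ⟨a, h.a_mem⟩ = ⟨a, h.a_mem⟩ * y :=
    fun y => Subtype.ext (h.K_a y.2)
  have hsq : ∀ x : h.K, x * x = 1 ∨ x * x = ⟨a, h.a_mem⟩ := by
    intro x
    apply hcen
    rw [MonoidHom.mem_ker, map_mul]
    apply Multiplicative.toAdd.injective
    rw [toAdd_mul, toAdd_one]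
    exact ZModModule.add_self _
  refine H92.isExtraspecial_of_center_two (IsPGroup.of_card (n := 9) (by simp [hK])) hζ haa
    (fun x hx => hcen x ?_) (fun x y => ?_) hsq (by omega)
  · rw [MonoidHom.mem_ker]
    apply Multiplicative.toAdd.injective
    ext j
    simp only [LocalRels.chi, MonoidHom.coe_mk, OneHom.coe_mk, toAdd_ofAdd, toAdd_one,
      Pi.zero_apply]
    exact if_pos (congrArg Subtype.val (hx ⟨_, h.q_mem j⟩)).symm
  · rcases h.comm_or x.2 y.2 with h1 | h1
    · left
      rw [show x * y = y * x from Subtype.ext h1]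
      group
    · right
      rw [show x * y = ⟨a, h.a_mem⟩ * (y * x) from Subtype.ext h1]
      group

end Cfsg.Agent.H40.Th
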