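import Cfsg.Agent.H40.Th.Data

/-!
The group presented by the images of the relators of the involution centraliser of the presented
Thompson group modulo its normal 2-subgroup is the alternating group of degree nine.
-/

set_option autoImplicit false

namespace Cfsg.Agent.H40.Th

open Cfsg.Agent.H45 Data

variable {G : Type*} [Group G]

/-- letters satisfying the relators of the quotient -/
structure Rels7 (e : ℕ → G) : Prop where
  rel : ∀ w ∈ rels7, evalW e w = 1
  out : ∀ l, 7 ≤ l → e l = 1

theorem Rels7.two {e : ℕ → G} (h : Rels7 e) {i j : ℕ} (hw : [i, j] ∈ rels7) :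
    e i * e j = 1 := by
  simpa [evalW] using h.rel _ hw

theorem Rels7.inv {e : ℕ → G} (h : Rels7 e) (l : ℕ) : e (linv iv7 l) = (e l)⁻¹ := by
  rcases l with _ | _ | _ | _ | _ | _ | _ | l
  · exact eq_inv_of_mul_eq_one_left (h.two (i := 0) (j := 0) (by decide))
  · exact eq_inv_of_mul_eq_one_left (h.two (i := 1) (j := 1) (by decide))
  · exact eq_inv_of_mul_eq_one_right (h.two (i := 2) (j := 3) (by decide))
  · exact eq_inv_of_mul_eq_one_left (h.two (i := 2) (j := 3) (by decide))
  · exact eq_inv_of_mul_eq_one_right (h.two (i := 4) (j := 5) (by decide))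
  · exact eq_inv_of_mul_eq_one_left (h.two (i := 4) (j := 5) (by decide))
  · exact eq_inv_of_mul_eq_one_left (h.two (i := 6) (j := 6) (by decide))
  · have h1 : linv iv7 (l + 7) = l + 7 := by simp [linv, iv7]
    rw [h1, h.out _ (by omega), inv_one]

/-- the subgroup generated by a list of letters -/
def lgen (e : ℕ → G) (ls : List ℕ) : Subgroup G :=
  Subgroup.closure {g | ∃ l ∈ ls, e l = g}

/-- the conditions on a level of the chain -/
def levelOK (D : Dat) (ls ms : List ℕ) : Bool :=
  decide (D.L = ls.length) &&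
    ((List.range D.L).all fun l => decide (linv D.iv l < D.L) &&
      decide (ls.getD (linv D.iv l) 7 = linv iv7 (ls.getD l 7))) &&
    decide (D.iv.length = D.L) &&
    (D.R.all fun w => decide ((w.map fun l => ls.getD l 7) ∈ rels7)) &&
    (D.S.all fun w => w.all fun l => decide (ls.getD l 7 ∈ ms))

theorem Rels7.step {e : ℕ → G} (h : Rels7 e) {D : Dat} {n m : ℕ} {ls ms tree : List ℕ}
    {bs : List Blk} (hok : levelOK D ls ms = true) (hn : 0 < n)
    (hp : permCheck D.L n D.iv D.cols [] = true)
    (hc : closeCheck D n tree bs = true)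
    (hm : Finite (lgen e ms) ∧ Nat.card (lgen e ms) ≤ m) :
    Finite (lgen e ls) ∧ Nat.card (lgen e ls) ≤ n * m := by
  simp only [levelOK, Bool.and_eq_true, decide_eq_true_eq, List.all_eq_true,
    List.mem_range] at hok
  obtain ⟨⟨⟨⟨hL, hiv⟩, hlen⟩, hR⟩, hS⟩ := hok
  let e' : ℕ → G := fun l => e (ls.getD l 7)
  have hev : ∀ w : List ℕ, evalW e' w = evalW e (w.map fun l => ls.getD l 7) := fun w => by
    simp [evalW, e', List.map_map, Function.comp_def]
  have hinv : ∀ l, e' (linv D.iv l) = (e' l)⁻¹ := by
    intro l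
    rcases Nat.lt_or_ge l D.L with hl | hl
    · change e (ls.getD (linv D.iv l) 7) = (e (ls.getD l 7))⁻¹
      rw [(hiv l hl).2, h.inv]
    · have h1 : linv D.iv l = l := by
        simp [linv, List.getD_eq_getElem?_getD, List.getElem?_eq_none (hlen.trans_le hl)]
      have h2 : ls.getD l 7 = 7 := by
        simp [List.getD_eq_getElem?_getD, List.getElem?_eq_none (hL.symm.trans_le hl)]
      simp only [e', h1, h2, h.out 7 le_rfl, inv_one]
  have hD : Hyp D e' (lgen e ms) := by
    refine ⟨hinv, fun w hw => ?_, fun w hw => ?_⟩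
    · rw [hev]; exact h.rel _ (hR w hw)
    · apply list_prod_mem
      intro x hx
      obtain ⟨l, hl, rfl⟩ := List.mem_map.mp hx
      exact Subgroup.subset_closure ⟨_, hS w hw l hl, rfl⟩
  have hE : ∀ l, l < D.L → e' l ∈ lgen e ls := by
    intro l hl
    refine Subgroup.subset_closure ⟨_, ?_, rfl⟩
    rw [List.getD_eq_getElem _ _ (hL ▸ hl)]
    exact List.getElem_mem _
  obtain ⟨-, w, hw0, -, hw⟩ := closeCheck_sound hD hE hc
  haveI := hm.1
  refine card_le_of_cosets (w := w) (cosets_exhaust (e := e') (iv := D.iv) ?_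
    (fun l hl => ⟨(hiv l hl).1, hinv l⟩) (permCheck_PT hp).lt hn hw0 hw) hm.2
  refine (Subgroup.closure_le _).mpr ?_
  rintro _ ⟨x, hx, rfl⟩
  obtain ⟨k, hk, rfl⟩ := List.getElem_of_mem hx
  refine Subgroup.subset_closure ⟨k, hL ▸ hk, ?_⟩
  change e (ls.getD k 7) = e ls[k]
  rw [List.getD_eq_getElem _ _ hk]

theorem lgen_nil (e : ℕ → G) : Finite (lgen e []) ∧ Nat.card (lgen e []) ≤ 1 := by
  have h : lgen e [] = ⊥ := by simp [lgen]
  rw [h]
  exact ⟨inferInstance, le_of_eq Subgroup.card_bot⟩

set_option maxRecDepth 100000 in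
/-- the order bound -/
theorem Rels7.card_le {e : ℕ → G} (h : Rels7 e) :
    Finite (lgen e lsP) ∧ Nat.card (lgen e lsP) ≤ 181440 := by
  have hB := h.step (D := datB) (n := 21) (ls := lsB) (tree := treeB) (bs := blksB)
    (by decide +kernel) (by omega) (by decide +kernel) (by decide +kernel) (lgen_nil e)
  have hD := h.step (D := datD) (n := 8) (ls := lsD) (tree := treeD) (bs := blksD)
    (by decide +kernel) (by omega) (by decide +kernel) (by decide +kernel) hB
  have hE := h.step (D := datE) (n := 8) (ls := lsE) (tree := treeE) (bs := blksE)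
    (by decide +kernel) (by omega) (by decide +kernel) (by decide +kernel) hD
  have hP := h.step (D := datP) (n := 135) (ls := lsP) (tree := treeP) (bs := blksP)
    (by decide +kernel) (by omega) (by decide +kernel) (by decide +kernel) hE
  exact hP

/-- free letters -/
def fl (l : ℕ) : FreeGroup (Fin 7) := if h : l < 7 then FreeGroup.of ⟨l, h⟩ else 1

/-- the relators as free words -/
def relSet : Set (FreeGroup (Fin 7)) := {r | ∃ w ∈ rels7, evalW fl w = r}

/-- the presented quotient -/
abbrev Q7 : Type := PresentedGroup relSet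

/-- its letters -/
def e7 (l : ℕ) : Q7 := PresentedGroup.mk relSet (fl l)

theorem evalW_map_hom {H : Type*} [Group H] (f : G →* H) (e : ℕ → G) (w : List ℕ) :
    f (evalW e w) = evalW (fun l => f (e l)) w := by
  simp [evalW, map_list_prod, List.map_map, Function.comp_def]

theorem rels_e7 : Rels7 e7 := by
  refine ⟨fun w hw => ?_, fun l hl => ?_⟩
  · have h := PresentedGroup.one_of_mem (rels := relSet) ⟨w, hw, rfl⟩
    rw [evalW_map_hom] at h
    exact h
  · simp [e7, fl, Nat.not_lt.mpr hl]

theorem lgen_e7 : lgen e7 lsP = ⊤ := by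
  rw [eq_top_iff, ← PresentedGroup.closure_range_of relSet, Subgroup.closure_le]
  rintro _ ⟨x, rfl⟩
  refine Subgroup.subset_closure ⟨x, ?_, ?_⟩
  · fin_cases x <;> decide
  · simp [e7, fl, x.isLt]
    rfl

instance : Finite Q7 := by
  have h := rels_e7.card_le.1
  rw [lgen_e7] at h
  exact Finite.of_equiv _ Subgroup.topEquiv.toEquiv

theorem card_Q7_le : Nat.card Q7 ≤ 181440 := by
  have h := rels_e7.card_le.2
  rwa [lgen_e7, Subgroup.card_top] at h

set_option maxRecDepth 100000 in
theorem perm9_ok : permCheck 7 9 iv7 cols9 rels7 = true := by decide +kernel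

/-- the nine points -/
theorem T9 : PT 7 9 iv7 cols9 := permCheck_PT perm9_ok

theorem sig_of_ge {l : ℕ} (h : 7 ≤ l) : sig T9 l = 1 := by
  simp [sig, Nat.not_lt.mpr h]

theorem rels_sig : ∀ w ∈ rels7, evalW (sig T9) w = 1 := permCheck_rel perm9_ok

/-- the action on nine points -/
noncomputable def psi : Q7 →* Equiv.Perm (Fin 9) :=
  PresentedGroup.toGroup (f := fun x : Fin 7 => sig T9 x) (by
    rintro _ ⟨w, hw, rfl⟩
    rw [evalW_map_hom]
    have h : (fun l => FreeGroup.lift (fun x : Fin 7 => sig T9 x) (fl l)) = sig T9 := by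
      funext l
      unfold fl
      split_ifs with hl
      · simp
      · rw [map_one, sig_of_ge (Nat.not_lt.mp hl)]
    rw [h]
    exact rels_sig w hw)

theorem psi_e7 (l : ℕ) : psi (e7 l) = sig T9 l := by
  unfold e7 fl
  split_ifs with hl
  · exact PresentedGroup.toGroup.of _
  · rw [map_one, map_one, sig_of_ge (Nat.not_lt.mp hl)]

set_option maxRecDepth 100000 in
theorem sign_sig : ∀ l : Fin 7, Equiv.Perm.sign (sig T9 l) = 1 := by decide +kernel

theorem psi_range_le : psi.range ≤ alternatingGroup (Fin 9) := by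
  rw [MonoidHom.range_eq_map, ← PresentedGroup.closure_range_of relSet, MonoidHom.map_closure,
    Subgroup.closure_le]
  rintro _ ⟨_, ⟨x, rfl⟩, rfl⟩
  have h : PresentedGroup.of (rels := relSet) x = e7 x := by simp [e7, fl, x.isLt]; rfl
  rw [SetLike.mem_coe, Equiv.Perm.mem_alternatingGroup, h, psi_e7]
  exact sign_sig x

set_option maxRecDepth 100000 in
theorem psi_range_ge : 181440 ≤ Nat.card psi.range := by
  have hc : chainCheck 7 9 cols9 chain9 = true := by decide +kernel
  have hp : chainProd chain9 = 181440 := by decide +kernel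
  rw [← hp]
  refine chainCheck_sound T9 hc _ fun lv _ g _ => ?_
  refine list_prod_mem fun x hx => ?_
  obtain ⟨l, -, rfl⟩ := List.mem_map.mp hx
  exact ⟨e7 l, psi_e7 l⟩

theorem card_alt_nine : Nat.card (alternatingGroup (Fin 9)) = 181440 := by
  rw [nat_card_alternatingGroup, Nat.card_fin]
  rfl

theorem psi_range : psi.range = alternatingGroup (Fin 9) :=
  Subgroup.eq_of_le_of_card_ge psi_range_le (card_alt_nine.le.trans psi_range_ge)

theorem psi_injective : Function.Injective psi := by
  have h1 : Nat.card psi.range = Nat.card Q7 :=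
    le_antisymm (Nat.card_le_card_of_surjective _ psi.rangeRestrict_surjective)
      (card_Q7_le.trans psi_range_ge)
  have h2 : Function.Bijective psi.rangeRestrict :=
    (Nat.bijective_iff_surjective_and_card _).mpr ⟨psi.rangeRestrict_surjective, h1.symm⟩
  intro x y hxy
  exact h2.1 (Subtype.ext hxy)

/-- the presented quotient is alternating of degree nine -/
noncomputable def q7Equiv : Q7 ≃* alternatingGroup (Fin 9) :=
  (MonoidHom.ofInjective psi_injective).trans (MulEquiv.subgroupCongr psi_range)

theorem card_Q7 : Nat.card Q7 = 181440 := by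
  rw [Nat.card_congr q7Equiv.toEquiv, card_alt_nine]

theorem isSimple_Q7 : IsSimpleGroup Q7 :=
  haveI := alternatingGroup.isSimpleGroup (α := Fin 9) (by simp)
  q7Equiv.isSimpleGroup

end Cfsg.Agent.H40.Th
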