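import Cfsg.Prelude.Def_Spor_Th
import Cfsg.Agent.H40.Th.NineQuot
import Cfsg.Agent.H40.Th.NineOrbit

/-!
The subgroup `C = <a, c, d, e, s, t, u>` of the presented Thompson group: the normal closure of `c`
in it is extraspecial of order 512 with alternating quotient of degree nine, given the order of `C`.
-/

set_option autoImplicit false
set_option maxHeartbeats 1000000

namespace Cfsg.Agent.H40.Th

open Cfsg.Agent.H45 Data

/-- a generator of the presented group -/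
def gen (x : Cfsg.Spor.Th.Gen) : Cfsg.Spor.Th := PresentedGroup.of x

/-- the relators vanish -/
theorem rel_one {r : FreeGroup Cfsg.Spor.Th.Gen} (hr : r ∈ Cfsg.Spor.Th.extra) :
    FreeGroup.lift gen r = 1 := by
  have h : FreeGroup.lift gen =
      PresentedGroup.mk (Cfsg.Spor.coxRelators Cfsg.Spor.Th.edges ∪ {r | r ∈ Cfsg.Spor.Th.extra}) :=
    FreeGroup.ext_hom _ _ fun x => by simp [gen]; rfl
  rw [h]
  exact PresentedGroup.one_of_mem (Or.inr hr)

/-- the relator with a given number -/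
theorem rel_getD (k : ℕ) : FreeGroup.lift gen (Cfsg.Spor.Th.extra.getD k 1) = 1 := by
  rcases Nat.lt_or_ge k Cfsg.Spor.Th.extra.length with h | h
  · rw [List.getD_eq_getElem _ _ h]; exact rel_one (List.getElem_mem h)
  · rw [List.getD_eq_getElem?_getD, List.getElem?_eq_none h]; exact map_one _

/-- the centraliser candidate -/
def CC : Subgroup Cfsg.Spor.Th :=
  Subgroup.closure {gen .a, gen .c, gen .d, gen .e, gen .s, gen .t, gen .u}

/-- a generator inside `CC` (`b` is sent to one) -/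
def cg : Cfsg.Spor.Th.Gen → CC
  | .a => ⟨gen .a, Subgroup.subset_closure (by simp)⟩
  | .b => 1
  | .c => ⟨gen .c, Subgroup.subset_closure (by simp)⟩
  | .d => ⟨gen .d, Subgroup.subset_closure (by simp)⟩
  | .e => ⟨gen .e, Subgroup.subset_closure (by simp)⟩
  | .s => ⟨gen .s, Subgroup.subset_closure (by simp)⟩
  | .t => ⟨gen .t, Subgroup.subset_closure (by simp)⟩
  | .u => ⟨gen .u, Subgroup.subset_closure (by simp)⟩

local notation "A" => cg Cfsg.Spor.Th.Gen.a
local notation "C" => cg Cfsg.Spor.Th.Gen.c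
local notation "D" => cg Cfsg.Spor.Th.Gen.d
local notation "E" => cg Cfsg.Spor.Th.Gen.e
local notation "S" => cg Cfsg.Spor.Th.Gen.s
local notation "T" => cg Cfsg.Spor.Th.Gen.t
local notation "U" => cg Cfsg.Spor.Th.Gen.u

/-- a relator without `b` vanishes in `CC` -/
theorem crel {r : FreeGroup Cfsg.Spor.Th.Gen}
    (hr : ((FreeGroup.lift cg r : CC) : Cfsg.Spor.Th) = FreeGroup.lift gen r)
    (hmem : r ∈ Cfsg.Spor.Th.extra) : FreeGroup.lift cg r = 1 :=
  Subtype.ext (hr.trans (rel_one hmem))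

set_option maxRecDepth 100000 in
theorem crel_getD : ∀ k ∈ [0, 2, 3, 4, 6, 10, 11, 12, 14, 15, 17, 18, 19, 20, 21, 23, 24, 25, 26,
    27, 28, 29, 30, 31, 34, 35, 36, 37, 38], FreeGroup.lift cg (Cfsg.Spor.Th.extra.getD k 1) = 1 := by
  intro k hk
  apply Subtype.ext
  rw [Subgroup.coe_one, ← rel_getD k]
  fin_cases hk <;> simp [cg, Cfsg.Spor.Th.extra]

theorem A_sq : A * A = 1 := by
  simpa [Cfsg.Spor.Th.extra, pow_succ, mul_assoc] using crel_getD 0 (by decide)

theorem C_sq : C * C = 1 := by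
  simpa [Cfsg.Spor.Th.extra, pow_succ, mul_assoc] using crel_getD 2 (by decide)

theorem D_sq : D * D = 1 := by
  simpa [Cfsg.Spor.Th.extra, pow_succ, mul_assoc] using crel_getD 3 (by decide)

theorem E_sq : E * E = 1 := by
  simpa [Cfsg.Spor.Th.extra, pow_succ, mul_assoc] using crel_getD 4 (by decide)

theorem CD_four : (C * D) ^ 4 = A := by
  have h : A * ((C * D) ^ 4)⁻¹ = 1 := by
    simpa [Cfsg.Spor.Th.extra] using crel_getD 10 (by decide)
  exact (mul_inv_eq_one.mp h).symm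

/-- elements commute from a vanishing commutator -/
theorem comm_of {G : Type*} [Group G] {x y : G} (h : x⁻¹ * y⁻¹ * x * y = 1) : x * y = y * x := by
  calc x * y = y * x * (x⁻¹ * y⁻¹ * x * y) := by group
    _ = _ := by rw [h, mul_one]

/-- commuting involutions from a square -/
theorem comm_of_sq {G : Type*} [Group G] {x y : G} (hx : x * x = 1) (hy : y * y = 1)
    (h : (x * y) ^ 2 = 1) : x * y = y * x := by
  calc x * y = (x * y)⁻¹ := eq_inv_of_mul_eq_one_left (by rwa [pow_two] at h)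
    _ = _ := by rw [mul_inv_rev, ← eq_inv_of_mul_eq_one_left hx, ← eq_inv_of_mul_eq_one_left hy]

theorem SA : S * A = A * S :=
  comm_of (by simpa [Cfsg.Spor.Th.extra] using crel_getD 15 (by decide))

theorem SC : S * C = C * S :=
  comm_of (by simpa [Cfsg.Spor.Th.extra] using crel_getD 17 (by decide))

theorem TA : T * A = A * T :=
  comm_of (by simpa [Cfsg.Spor.Th.extra] using crel_getD 21 (by decide))

theorem UA : U * A = A * U :=
  comm_of (by simpa [Cfsg.Spor.Th.extra] using crel_getD 28 (by decide))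

theorem EA : E * A = A * E :=
  (comm_of_sq A_sq E_sq (by simpa [Cfsg.Spor.Th.extra] using crel_getD 6 (by decide))).symm

theorem EC : E * C = C * E :=
  (comm_of_sq C_sq E_sq (by simpa [Cfsg.Spor.Th.extra] using crel_getD 11 (by decide))).symm

theorem CA : C * A = A * C := by
  have h1 : C * (C * D) ^ 4 * C = ((C * D) ^ 4)⁻¹ := by
    have hc : C = C⁻¹ := eq_inv_of_mul_eq_one_left C_sq
    have hd : D = D⁻¹ := eq_inv_of_mul_eq_one_left D_sq
    simp only [pow_succ, pow_zero, one_mul, mul_inv_rev, ← hc, ← hd, mul_assoc]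
    simp only [← mul_assoc]
    rw [C_sq, one_mul]
  rw [CD_four, ← eq_inv_of_mul_eq_one_left A_sq] at h1
  calc C * A = C * A * (C * C) := by rw [C_sq, mul_one]
    _ = C * A * C * C := (mul_assoc _ _ _).symm
    _ = A * C := by rw [h1]

theorem DA : D * A = A * D := by
  have h1 : D * (C * D) ^ 4 * D = ((C * D) ^ 4)⁻¹ := by
    have hc : C = C⁻¹ := eq_inv_of_mul_eq_one_left C_sq
    have hd : D = D⁻¹ := eq_inv_of_mul_eq_one_left D_sq
    simp only [pow_succ, pow_zero, one_mul, mul_inv_rev, ← hc, ← hd, mul_assoc]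
    rw [D_sq, mul_one]
  rw [CD_four, ← eq_inv_of_mul_eq_one_left A_sq] at h1
  calc D * A = D * A * (D * D) := by rw [D_sq, mul_one]
    _ = D * A * D * D := (mul_assoc _ _ _).symm
    _ = A * D := by rw [h1]

theorem A_central (x : CC) : x * A = A * x := by
  have hx : (x : Cfsg.Spor.Th) ∈ Subgroup.centralizer {(A : Cfsg.Spor.Th)} := by
    refine (Subgroup.closure_le _).mpr ?_ x.2
    intro y hy
    simp only [Set.mem_insert_iff, Set.mem_singleton_iff] at hy
    rw [SetLike.mem_coe, Subgroup.mem_centralizer_singleton_iff]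
    rcases hy with rfl | rfl | rfl | rfl | rfl | rfl | rfl
    · rfl
    · exact congrArg Subtype.val CA
    · exact congrArg Subtype.val DA
    · exact congrArg Subtype.val EA
    · exact congrArg Subtype.val SA
    · exact congrArg Subtype.val TA
    · exact congrArg Subtype.val UA
  exact Subtype.ext (Subgroup.mem_centralizer_singleton_iff.mp hx)

/-- the normal closure of `c` -/
def QQ : Subgroup CC := Subgroup.normalClosure {C}

instance : QQ.Normal := Subgroup.normalClosure_normal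

theorem C_mem : C ∈ QQ := Subgroup.subset_normalClosure rfl

/-- letters in the quotient -/
def e7Q : ℕ → CC ⧸ QQ
  | 0 => QuotientGroup.mk' QQ D
  | 1 => QuotientGroup.mk' QQ E
  | 2 => QuotientGroup.mk' QQ S
  | 3 => (QuotientGroup.mk' QQ S)⁻¹
  | 4 => QuotientGroup.mk' QQ T
  | 5 => (QuotientGroup.mk' QQ T)⁻¹
  | 6 => QuotientGroup.mk' QQ U
  | _ => 1

theorem rels_e7Q : Rels7 e7Q := by
  set f := QuotientGroup.mk' QQ with hf
  have hC : f C = 1 := (QuotientGroup.eq_one_iff _).mpr C_mem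
  have hA : f A = 1 := by
    rw [← CD_four, map_pow, map_mul, hC, one_mul, pow_succ, pow_succ, pow_succ, pow_one,
      ← map_mul, D_sq, map_one, one_mul, ← map_mul, D_sq, map_one]
  have hd : (f D)⁻¹ = f D := (eq_inv_of_mul_eq_one_left (by rw [← map_mul, D_sq, map_one])).symm
  have he : (f E)⁻¹ = f E := (eq_inv_of_mul_eq_one_left (by rw [← map_mul, E_sq, map_one])).symm
  have hu : (f U)⁻¹ = f U := by
    have h := congrArg f (crel_getD 27 (by decide))
    simp [Cfsg.Spor.Th.extra, hA, hC, pow_succ] at h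
    exact (eq_inv_of_mul_eq_one_left h).symm
  have key : ∀ k, (hk : k ∈ [0, 2, 3, 4, 6, 10, 11, 12, 14, 15, 17, 18, 19, 20, 21, 23, 24, 25,
      26, 27, 28, 29, 30, 31, 34, 35, 36, 37, 38]) →
      f (FreeGroup.lift cg (Cfsg.Spor.Th.extra.getD k 1)) = 1 := fun k hk => by
    rw [crel_getD k hk, map_one]
  have k3 : f (FreeGroup.lift cg (Cfsg.Spor.Th.d ^ 2)) = 1 :=
    key 3 (by decide)
  have k4 : f (FreeGroup.lift cg (Cfsg.Spor.Th.e ^ 2)) = 1 :=
    key 4 (by decide)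
  have k12 : f (FreeGroup.lift cg ((Cfsg.Spor.Th.d * Cfsg.Spor.Th.e) ^ 3)) = 1 :=
    key 12 (by decide)
  have k14 : f (FreeGroup.lift cg (Cfsg.Spor.Th.s ^ 7)) = 1 :=
    key 14 (by decide)
  have k18 : f (FreeGroup.lift cg ((Cfsg.Spor.Th.s * Cfsg.Spor.Th.d) ^ 2)) = 1 :=
    key 18 (by decide)
  have k19 : f (FreeGroup.lift cg ((Cfsg.Spor.Th.e⁻¹ * Cfsg.Spor.Th.s⁻¹ * Cfsg.Spor.Th.e * Cfsg.Spor.Th.s) * (((Cfsg.Spor.Th.s ^ 3)⁻¹ * Cfsg.Spor.Th.e * (Cfsg.Spor.Th.s ^ 3))⁻¹))) = 1 :=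
    key 19 (by decide)
  have k20 : f (FreeGroup.lift cg (Cfsg.Spor.Th.t ^ 3)) = 1 :=
    key 20 (by decide)
  have k24 : f (FreeGroup.lift cg (Cfsg.Spor.Th.t⁻¹ * Cfsg.Spor.Th.d⁻¹ * Cfsg.Spor.Th.t * Cfsg.Spor.Th.d)) = 1 :=
    key 24 (by decide)
  have k25 : f (FreeGroup.lift cg (Cfsg.Spor.Th.t⁻¹ * Cfsg.Spor.Th.e⁻¹ * Cfsg.Spor.Th.t * Cfsg.Spor.Th.e)) = 1 :=
    key 25 (by decide)
  have k26 : f (FreeGroup.lift cg ((Cfsg.Spor.Th.t⁻¹ * Cfsg.Spor.Th.s * Cfsg.Spor.Th.t) * ((Cfsg.Spor.Th.s ^ 2)⁻¹))) = 1 :=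
    key 26 (by decide)
  have k27 : f (FreeGroup.lift cg ((Cfsg.Spor.Th.u ^ 2) * ((Cfsg.Spor.Th.a * Cfsg.Spor.Th.c)⁻¹))) = 1 :=
    key 27 (by decide)
  have k30 : f (FreeGroup.lift cg (Cfsg.Spor.Th.u⁻¹ * Cfsg.Spor.Th.e⁻¹ * Cfsg.Spor.Th.u * Cfsg.Spor.Th.e)) = 1 :=
    key 30 (by decide)
  have k31 : f (FreeGroup.lift cg ((Cfsg.Spor.Th.d * Cfsg.Spor.Th.e * (Cfsg.Spor.Th.u⁻¹ * Cfsg.Spor.Th.d * Cfsg.Spor.Th.u)) ^ 2)) = 1 :=
    key 31 (by decide)
  have k34 : f (FreeGroup.lift cg ((Cfsg.Spor.Th.u⁻¹ * Cfsg.Spor.Th.t * Cfsg.Spor.Th.u) * ((Cfsg.Spor.Th.t⁻¹)⁻¹))) = 1 :=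
    key 34 (by decide)
  have k35 : f (FreeGroup.lift cg (Cfsg.Spor.Th.e⁻¹ * ((Cfsg.Spor.Th.s ^ 2)⁻¹ * Cfsg.Spor.Th.u * (Cfsg.Spor.Th.s ^ 2))⁻¹ * Cfsg.Spor.Th.e * ((Cfsg.Spor.Th.s ^ 2)⁻¹ * Cfsg.Spor.Th.u * (Cfsg.Spor.Th.s ^ 2)))) = 1 :=
    key 35 (by decide)
  have k36 : f (FreeGroup.lift cg ((Cfsg.Spor.Th.a * Cfsg.Spor.Th.c) * (((Cfsg.Spor.Th.u * Cfsg.Spor.Th.s) ^ 3)⁻¹))) = 1 :=
    key 36 (by decide)
  have k37 : f (FreeGroup.lift cg ((Cfsg.Spor.Th.a * Cfsg.Spor.Th.c) * (((Cfsg.Spor.Th.u⁻¹ * Cfsg.Spor.Th.s⁻¹ * Cfsg.Spor.Th.u * Cfsg.Spor.Th.s) ^ 4)⁻¹))) = 1 :=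
    key 37 (by decide)
  have k38 : f (FreeGroup.lift cg (((Cfsg.Spor.Th.d * ((Cfsg.Spor.Th.s ^ 2)⁻¹ * Cfsg.Spor.Th.u * (Cfsg.Spor.Th.s ^ 2))) ^ 4) * ((Cfsg.Spor.Th.a * Cfsg.Spor.Th.c * (Cfsg.Spor.Th.d⁻¹ * Cfsg.Spor.Th.c * Cfsg.Spor.Th.d) * ((Cfsg.Spor.Th.d * Cfsg.Spor.Th.e * (Cfsg.Spor.Th.s⁻¹))⁻¹ * Cfsg.Spor.Th.c * (Cfsg.Spor.Th.d * Cfsg.Spor.Th.e * (Cfsg.Spor.Th.s⁻¹))) * ((Cfsg.Spor.Th.d * Cfsg.Spor.Th.e * (Cfsg.Spor.Th.s ^ 2))⁻¹ * Cfsg.Spor.Th.c * (Cfsg.Spor.Th.d * Cfsg.Spor.Th.e * (Cfsg.Spor.Th.s ^ 2))))⁻¹))) = 1 :=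
    key 38 (by decide)
  simp only [Cfsg.Spor.Th.a, Cfsg.Spor.Th.c, Cfsg.Spor.Th.d, Cfsg.Spor.Th.e, Cfsg.Spor.Th.s,
    Cfsg.Spor.Th.t, Cfsg.Spor.Th.u, map_mul, map_inv, map_pow, FreeGroup.lift_apply_of, hA, hC, mul_inv_rev, inv_inv, inv_one, one_mul, mul_one, hd, he, hu, pow_succ, pow_zero, mul_assoc, inv_mul_cancel, mul_inv_cancel,
    inv_mul_cancel_left, mul_inv_cancel_left]
    at k3 k4 k12 k14 k18 k19 k20 k24 k25 k26 k27 k30 k31 k34 k35 k36 k37 k38
  have i36 := inv_eq_one.mpr k36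
  have i37 := inv_eq_one.mpr k37
  have dd : ∀ x, f D * (f D * x) = x := fun x => by rw [← mul_assoc, k3, one_mul]
  have ee : ∀ x, f E * (f E * x) = x := fun x => by rw [← mul_assoc, k4, one_mul]
  simp only [dd, ee, k3, k4, inv_mul_cancel, mul_inv_cancel, inv_mul_cancel_left,
    mul_inv_cancel_left, mul_one] at k38
  simp only [mul_inv_rev, inv_inv, hd, he, hu, mul_assoc] at i36 i37
  refine ⟨fun w hw => ?_, fun l hl => ?_⟩
  · simp only [rels7, List.mem_cons, List.not_mem_nil, or_false] at hw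
    rcases hw with rfl | rfl | rfl | rfl | rfl | rfl | rfl | rfl | rfl | rfl | rfl | rfl | rfl |
      rfl | rfl | rfl | rfl | rfl | rfl | rfl
    all_goals simp only [evalW, List.map_cons, List.map_nil, List.prod_cons, List.prod_nil,
      e7Q, mul_one, mul_inv_cancel, ← hf]
    all_goals first
      | assumption
      | skip
  · rcases l with _ | _ | _ | _ | _ | _ | _ | l <;> first | omega | rfl

/-- letters `d, e, s, s⁻¹` in `CC` -/
def e4C : ℕ → CC
  | 0 => D
  | 1 => E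
  | 2 => S
  | 3 => S⁻¹
  | _ => 1

theorem local_rels (ha : A ≠ 1) : LocalRels A C e4C := by
  have h12 : (D * E) * ((D * E) * (D * E)) = 1 := by
    simpa [Cfsg.Spor.Th.extra, pow_succ, mul_assoc] using crel_getD 12 (by decide)
  have h14 : S ^ 7 = 1 := by simpa [Cfsg.Spor.Th.extra] using crel_getD 14 (by decide)
  have h18 : S * D * (S * D) = 1 := by
    simpa [Cfsg.Spor.Th.extra, pow_succ, mul_assoc] using crel_getD 18 (by decide)
  have h19 : E⁻¹ * S⁻¹ * E * S * ((S ^ 3)⁻¹ * E * S ^ 3)⁻¹ = 1 := by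
    simpa [Cfsg.Spor.Th.extra, mul_assoc] using crel_getD 19 (by decide)
  have hei : E⁻¹ = E := (eq_inv_of_mul_eq_one_left E_sq).symm
  refine ⟨fun w hw => ?_, fun l hl => ?_, ha, A_sq, fun l => A_central _, CA, C_sq, CD_four, EC, SC⟩
  · simp only [dat9, datL, List.mem_cons, List.not_mem_nil, or_false] at hw
    rcases hw with rfl | rfl | rfl | rfl | rfl | rfl | rfl <;>
      simp only [evalW, List.map_cons, List.map_nil, List.prod_cons, List.prod_nil, e4C, mul_one]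
    · exact D_sq
    · exact E_sq
    · simpa [mul_assoc] using h12
    · simpa [mul_assoc] using h18
    · simpa [pow_succ, mul_assoc] using h14
    · simp only [mul_inv_rev, inv_inv, hei, pow_succ, pow_zero, one_mul, mul_assoc,
        mul_inv_cancel_left] at h19
      exact h19
    · exact mul_inv_cancel S
  · rcases l with _ | _ | _ | _ | l <;> first | omega | rfl

theorem lgen_e7Q : lgen e7Q lsP = ⊤ := by
  have h : (⊤ : Subgroup CC) ≤ (lgen e7Q lsP).comap (QuotientGroup.mk' QQ) := by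
    rintro ⟨x, hx⟩ -
    change QuotientGroup.mk' QQ ⟨x, hx⟩ ∈ lgen e7Q lsP
    induction hx using Subgroup.closure_induction with
    | mem x hx =>
      simp only [Set.mem_insert_iff, Set.mem_singleton_iff] at hx
      have hm : ∀ l, l ∈ lsP → e7Q l ∈ lgen e7Q lsP := fun l hl =>
        Subgroup.subset_closure ⟨l, hl, rfl⟩
      have hC : QuotientGroup.mk' QQ C = 1 := (QuotientGroup.eq_one_iff _).mpr C_mem
      rcases hx with rfl | rfl | rfl | rfl | rfl | rfl | rfl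
      · change QuotientGroup.mk' QQ A ∈ _
        rw [← CD_four, map_pow, map_mul, hC, one_mul]
        exact pow_mem (hm 0 (by decide)) 4
      · change QuotientGroup.mk' QQ C ∈ _
        rw [hC]; exact one_mem _
      · exact hm 0 (by decide)
      · exact hm 1 (by decide)
      · exact hm 2 (by decide)
      · exact hm 4 (by decide)
      · exact hm 6 (by decide)
    | one =>
      change QuotientGroup.mk' QQ 1 ∈ _
      rw [map_one]; exact one_mem _
    | mul x y hx hy ihx ihy =>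
      have := mul_mem ihx ihy
      rwa [← map_mul] at this
    | inv x hx ih =>
      have := inv_mem ih
      rwa [← map_inv] at this
  rw [eq_top_iff]
  intro q _
  obtain ⟨x, rfl⟩ := QuotientGroup.mk'_surjective QQ q
  exact h (Subgroup.mem_top x)

/-- the map from the presented quotient -/
def fromQ7 : Q7 →* CC ⧸ QQ :=
  PresentedGroup.toGroup (f := fun x : Fin 7 => e7Q x) (by
    rintro _ ⟨w, hw, rfl⟩
    rw [evalW_map_hom]
    have h : (fun l => FreeGroup.lift (fun x : Fin 7 => e7Q x) (fl l)) = e7Q := by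
      funext l
      unfold fl
      split_ifs with hl
      · simp
      · rw [map_one, rels_e7Q.out l (Nat.not_lt.mp hl)]
    rw [h]
    exact rels_e7Q.rel w hw)

theorem fromQ7_surjective : Function.Surjective fromQ7 := by
  rw [← MonoidHom.range_eq_top, eq_top_iff, ← lgen_e7Q, lgen, Subgroup.closure_le]
  rintro _ ⟨l, -, rfl⟩
  rcases Nat.lt_or_ge l 7 with hl | hl
  · exact ⟨PresentedGroup.of ⟨l, hl⟩, PresentedGroup.toGroup.of _⟩
  · rw [rels_e7Q.out l hl]; exact one_mem _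

/-- the quotient is alternating of degree nine -/
theorem quot_iso (hne : QQ ≠ ⊤) : Nonempty (CC ⧸ QQ ≃* alternatingGroup (Fin 9)) := by
  haveI := isSimple_Q7
  rcases (inferInstance : fromQ7.ker.Normal).eq_bot_or_eq_top with h | h
  · exact ⟨(MulEquiv.ofBijective fromQ7
      ⟨(MonoidHom.ker_eq_bot_iff _).mp h, fromQ7_surjective⟩).symm.trans q7Equiv⟩
  · refine absurd (eq_top_iff.mpr fun x _ => ?_) hne
    obtain ⟨p, hp⟩ := fromQ7_surjective (QuotientGroup.mk' QQ x)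
    have : p ∈ fromQ7.ker := h ▸ Subgroup.mem_top p
    rw [MonoidHom.mem_ker] at this
    exact (QuotientGroup.eq_one_iff x).mp (hp.symm.trans this)

theorem card_QQ (hne : QQ ≠ ⊤) (hcard : Nat.card CC = 92897280) : Nat.card QQ = 512 := by
  obtain ⟨φ⟩ := quot_iso hne
  have h := Subgroup.card_mul_index QQ
  rw [Subgroup.index, Nat.card_congr φ.toEquiv, card_alt_nine, hcard] at h
  exact Nat.eq_of_mul_eq_mul_right (show 0 < 181440 by norm_num) (h.trans (by norm_num))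

/-- the normal 2-subgroup is extraspecial -/
theorem QQ_extraspecial (hne : QQ ≠ ⊤) (hcard : Nat.card CC = 92897280) (ha : A ≠ 1) :
    Cfsg.IsExtraspecial 2 QQ := by
  haveI : Finite CC := Nat.finite_of_card_ne_zero (by omega)
  have h := local_rels ha
  have hle : h.K ≤ QQ := by
    refine (Subgroup.closure_le _).mpr ?_
    rintro _ ⟨i, rfl⟩
    obtain ⟨g, -, hg⟩ := h.q_conj i
    simp only [SetLike.mem_coe, hg]
    simpa using Subgroup.Normal.conj_mem (inferInstance : QQ.Normal) C C_mem g⁻¹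
  have hK : h.K = QQ := Subgroup.eq_of_le_of_card_ge hle (by
    rw [card_QQ hne hcard]; exact h.card_K_ge)
  have hex := h.isExtraspecial (by rw [hK]; exact card_QQ hne hcard)
  rwa [hK] at hex

end Cfsg.Agent.H40.Th
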