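import Cfsg.Agent.H40.Th.Invariant

/-!
Checkable certificates that a given word `g` does not conjugate `a` to an `H`-conjugate of `a`.
-/

set_option autoImplicit false

namespace Cfsg.Agent.H40.Th

open Matrix Cfsg.Agent.H32 ThRep

attribute [local irreducible] ThRep.gm ThRep.gi ThRep.mat ThRep.rep248 ThRep.chk ThRep.okMat
  ThRep.idN Proj.mP

/-- the value of a word in the group -/
def wval (w : List (Cfsg.Spor.Th.Gen × Bool)) : Cfsg.Spor.Th :=
  (w.map fun l => cond l.2 (gen l.1) (gen l.1)⁻¹).prod

/-- the inverse word -/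
def winvW (w : List (Cfsg.Spor.Th.Gen × Bool)) : List (Cfsg.Spor.Th.Gen × Bool) :=
  (w.map fun l => (l.1, !l.2)).reverse

/-- the word of `g a g⁻¹` -/
def conjW (w : List (Cfsg.Spor.Th.Gen × Bool)) : List (Cfsg.Spor.Th.Gen × Bool) :=
  w ++ (Cfsg.Spor.Th.Gen.a, true) :: winvW w

/-- packed value of a word -/
def evalV : List (Cfsg.Spor.Th.Gen × Bool) → ℕ → ℕ
  | [], acc => acc
  | l :: w, acc => evalV w (mulV acc (lm l))

/-- certificate: either two entries differ, or a minor is invertible -/
inductive NodeCert where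
  | out (i j : ℕ)
  | minor (rows cols : List ℕ) (inv : List (List ℕ))

/-- entry of `P Y - P` modulo three -/
def dEnt (PY i j : ℕ) : ℕ := (ent 248 PY i j + 2 * ent 248 Proj.mP i j) % 3

/-- the check of one node -/
def nodeOK (w : List (Cfsg.Spor.Th.Gen × Bool)) (c : NodeCert) : Bool :=
  force (evalV (conjW w) (idN 248)) fun Y =>
    chk 248 ((conjW w).map lm) (idN 248) Y && okMat 248 Y &&
      stepOK 248 (prodRaw 248 Proj.mP Y) (mulV Proj.mP Y) &&
      match c with
      | .out i j =>
        Nat.blt i 248 && Nat.blt j 248 && stepOK 248 (prodRaw 248 Y Proj.mP) (mulV Y Proj.mP) &&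
          !Nat.beq (ent 248 (mulV Proj.mP Y) i j % 3) (ent 248 (mulV Y Proj.mP) i j % 3)
      | .minor rows cols inv =>
        rows.all (fun i => Nat.blt i 248) && cols.all (fun j => Nat.blt j 248) &&
          (List.range 17).all fun i => (List.range 17).all fun l =>
            Nat.beq (((List.range 17).map fun k =>
              dEnt (mulV Proj.mP Y) (rows.getD i 0) (cols.getD k 0) * (inv.getD k []).getD l 0).sum % 3)
              (if i = l then 1 else 0)

theorem wval_winvW (w : List (Cfsg.Spor.Th.Gen × Bool)) : wval (winvW w) = (wval w)⁻¹ := by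
  induction w with
  | nil => simp [wval, winvW]
  | cons l w ih =>
    have h : winvW (l :: w) = winvW w ++ [(l.1, !l.2)] := by simp [winvW]
    rw [h, wval, List.map_append, List.prod_append]
    change wval (winvW w) * _ = _
    rw [ih]
    obtain ⟨g, b⟩ := l
    cases b <;> simp [wval]

theorem wval_conjW (w : List (Cfsg.Spor.Th.Gen × Bool)) :
    wval (conjW w) = wval w * gen .a * (wval w)⁻¹ := by
  rw [conjW, wval, List.map_append, List.prod_append, List.map_cons, List.prod_cons]
  change wval w * (gen .a * wval (winvW w)) = _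
  rw [wval_winvW, mul_assoc]

theorem rm_wval (w : List (Cfsg.Spor.Th.Gen × Bool)) :
    rm (wval w) = ((w.map lm).map (mat 248)).prod := by
  induction w with
  | nil => simp [wval, rm]
  | cons l w ih =>
    simp only [List.map_cons, List.prod_cons]
    rw [← ih]
    have hl : rm (cond l.2 (gen l.1) (gen l.1)⁻¹) = mat 248 (lm l) := by
      rw [← ThRep.val_letter l, rm]
      obtain ⟨g, b⟩ := l
      have hg : rep248 (gen g) = ThRep.gen g := Units.ext (ThRep.rep248_of g)
      cases b
      · simp only [cond_false, map_inv, hg]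
      · simp only [cond_true, hg]
    rw [show wval (l :: w) = cond l.2 (gen l.1) (gen l.1)⁻¹ * wval w by simp [wval], rm_mul, hl]

theorem node_sound {w : List (Cfsg.Spor.Th.Gen × Bool)} {c : NodeCert} (h : nodeOK w c = true)
    {x : Cfsg.Spor.Th} (hx : x ∈ HH) : wval w * gen .a * (wval w)⁻¹ ≠ x⁻¹ * gen .a * x := by
  intro heq
  simp only [nodeOK, ThRep.force_eq, Bool.and_eq_true] at h
  set Y := evalV (conjW w) (idN 248) with hY
  obtain ⟨⟨⟨hchk, hYok⟩, hPY⟩, hc⟩ := h
  have hrm : rm (x⁻¹ * gen .a * x) = mat 248 Y := by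
    rw [← heq, ← wval_conjW, rm_wval]
    have := chk_sound (n := 248) (by norm_num) (w := (conjW w).map lm)
      (fun X hX => by
        obtain ⟨l, -, rfl⟩ := List.mem_map.1 hX
        exact ThRep.okMat_lm l) ThRep.ok_id hchk
    rwa [ThRep.mat_idN, one_mul] at this
  obtain ⟨hok1, hm1⟩ := mat_mulV ok_P hYok hPY
  have hent : ∀ X : ℕ, ∀ i j : Fin 248, mat 248 X i j = (ent 248 X i j : ZMod 3) := fun X i j => by
    unfold ThRep.mat; rfl
  cases c with
  | out i j =>
    simp only [Bool.and_eq_true, Bool.not_eq_true'] at hc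
    obtain ⟨⟨⟨hi, hj⟩, hYP⟩, hne⟩ := hc
    have hi' : i < 248 := Nat.le_of_ble_eq_true hi
    have hj' : j < 248 := Nat.le_of_ble_eq_true hj
    obtain ⟨-, hm2⟩ := mat_mulV hYok ok_P hYP
    have h2 := commute_of_conj hx
    rw [hrm, P52, ← hm1, ← hm2] at h2
    have h3 := congrFun (congrFun h2 ⟨i, hi'⟩) ⟨j, hj'⟩
    rw [hent, hent, ZMod.natCast_eq_natCast_iff'] at h3
    have h4 : Nat.beq (ent 248 (mulV Proj.mP Y) i j % 3) (ent 248 (mulV Y Proj.mP) i j % 3) = true := by
      rw [Nat.beq_eq]; exact h3
    rw [h4] at hne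
    exact Bool.noConfusion hne
  | minor rows cols inv =>
    simp only [Bool.and_eq_true, List.all_eq_true] at hc
    obtain ⟨⟨hr, hcl⟩, hprod⟩ := hc
    have hget : ∀ (l : List ℕ), (∀ i ∈ l, Nat.blt i 248 = true) → ∀ k, l.getD k 0 < 248 := by
      intro l hl k
      rcases Nat.lt_or_ge k l.length with hk | hk
      · rw [List.getD_eq_getElem _ _ hk]
        exact Nat.le_of_ble_eq_true (hl _ (List.getElem_mem hk))
      · rw [List.getD_eq_getElem?_getD, List.getElem?_eq_none hk]
        exact Nat.succ_pos 247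
    let r : Fin 17 → Fin 248 := fun i => ⟨rows.getD i 0, hget rows hr i⟩
    let q : Fin 17 → Fin 248 := fun i => ⟨cols.getD i 0, hget cols hcl i⟩
    let M : M248 := P52 * (rm (x⁻¹ * gen .a * x) - 1)
    let K : Matrix (Fin 17) (Fin 17) (ZMod 3) := fun k l => ((inv.getD k []).getD l 0 : ZMod 3)
    have hd : ∀ i k, M (r i) (q k) = (dEnt (mulV Proj.mP Y) (rows.getD i 0) (cols.getD k 0) : ZMod 3) := by
      intro i k
      simp only [M]
      rw [hrm, mul_sub, mul_one, Matrix.sub_apply, P52, ← hm1, hent, hent, dEnt,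
        ZMod.natCast_mod, Nat.cast_add, Nat.cast_mul, sub_eq_add_neg]
      congr 1
      rw [show ((2 : ℕ) : ZMod 3) = -1 from by decide, neg_one_mul]
    have hMK : M.submatrix r q * K = 1 := by
      ext i l
      have h1 := hprod i (List.mem_range.mpr i.isLt) l (List.mem_range.mpr l.isLt)
      rw [Nat.beq_eq] at h1
      rw [Matrix.mul_apply]
      simp only [Matrix.submatrix_apply, hd, K, ← Nat.cast_mul, ← Nat.cast_sum]
      rw [← ZMod.natCast_mod, Finset.sum_range (f := fun k =>
          dEnt (mulV Proj.mP Y) (rows.getD i 0) (cols.getD k 0) * (inv.getD k []).getD l 0) |>.symm,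
        Finset.sum_eq_multiset_sum, Finset.range_val, Multiset.range, Multiset.map_coe,
        Multiset.sum_coe, h1, Matrix.one_apply]
      split_ifs with h5 h6 h6
      · simp
      · exact absurd (Fin.ext h5) h6
      · exact absurd (congrArg Fin.val h6) h5
      · simp
    have h17 : (M.submatrix r q).rank = 17 := by
      refine le_antisymm ((Matrix.rank_le_card_height _).trans (by simp)) ?_
      have := Matrix.rank_mul_le_left (M.submatrix r q) K
      rw [hMK, Matrix.rank_one, Fintype.card_fin] at this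
      exact this
    have hsub : (M.submatrix r q).rank ≤ M.rank := Matrix.rank_submatrix_le M r q
    have h16 : M.rank ≤ 16 := rank_of_conj hx
    exact absurd ((h17.symm.le.trans hsub).trans h16) (by decide)

end Cfsg.Agent.H40.Th
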